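import Cfsg.Agent.Lib.Base.MinimalNormal
import Cfsg.Agent.Lib.PGroups.UniqueOrderP

/-!
Solvable groups in which abelian subgroups of the same order are conjugate: the property passes to
quotients.
-/

set_option autoImplicit false
set_option linter.style.haveILetI false
set_option linter.unusedSectionVars false

universe u

namespace CfsgLib.FgsP.AbelianConjQuotient

open Subgroup
open scoped commutatorElement

/-- Any two abelian subgroups of the same order are conjugate. -/
def AbConj (G : Type u) [Group G] : Prop :=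
  ∀ A B : Subgroup G, IsMulCommutative ↥A → IsMulCommutative ↥B → Nat.card ↥A = Nat.card ↥B →
    ∃ g : G, B = A.map (MulAut.conj g).toMonoidHom

theorem AbConj.of_equiv {G H : Type u} [Group G] [Group H] (h : AbConj G) (e : G ≃* H) :
    AbConj H := by
  intro A B hA hB hAB
  haveI := hA
  haveI := hB
  obtain ⟨g, hg⟩ := h (A.map e.symm.toMonoidHom) (B.map e.symm.toMonoidHom)
    (Subgroup.map_isMulCommutative _ _) (Subgroup.map_isMulCommutative _ _)
    (by rw [Subgroup.card_map_of_injective e.symm.injective, Subgroup.card_map_of_injective e.symm.injective, hAB])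
  refine ⟨e g, ?_⟩
  have h1 := congrArg (Subgroup.map e.toMonoidHom) hg
  rw [Subgroup.map_map, Subgroup.map_map, Subgroup.map_map] at h1
  have hid : e.toMonoidHom.comp e.symm.toMonoidHom = MonoidHom.id H :=
    MonoidHom.ext fun x => e.apply_symm_apply x
  rw [hid, Subgroup.map_id] at h1
  rw [h1]
  congr 1
  exact MonoidHom.ext fun x => by simp

variable {G : Type u} [Group G] [Finite G] {p : ℕ} [Fact p.Prime]

/-- If lifts of two subgroups of a quotient are conjugate, so are the subgroups. -/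
theorem conj_of_lift {M : Subgroup G} [M.Normal] {A B : Subgroup (G ⧸ M)} {A₀ B₀ : Subgroup G}
    (hA : A₀.map (QuotientGroup.mk' M) = A) (hB : B₀.map (QuotientGroup.mk' M) = B) {g : G}
    (h : B₀ = A₀.map (MulAut.conj g).toMonoidHom) :
    ∃ g : G ⧸ M, B = A.map (MulAut.conj g).toMonoidHom := by
  refine ⟨QuotientGroup.mk' M g, ?_⟩
  rw [← hA, ← hB, h, Subgroup.map_map, Subgroup.map_map]
  congr 1

theorem comm_of_mem {A : Subgroup G} [IsMulCommutative ↥A] {a b : G} (ha : a ∈ A) (hb : b ∈ A) :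
    a * b = b * a :=
  congrArg Subtype.val (mul_comm' (⟨a, ha⟩ : A) ⟨b, hb⟩)

theorem commutator_mem_of_abelian {M : Subgroup G} [M.Normal] {A : Subgroup (G ⧸ M)}
    [IsMulCommutative ↥A] {u v : G} (hu : u ∈ A.comap (QuotientGroup.mk' M))
    (hv : v ∈ A.comap (QuotientGroup.mk' M)) : ⁅u, v⁆ ∈ M := by
  rw [← QuotientGroup.eq_one_iff]
  show QuotientGroup.mk' M ⁅u, v⁆ = 1
  rw [map_commutatorElement, commutatorElement_eq_one_iff_mul_comm]
  exact congrArg Subtype.val (mul_comm' (⟨_, hu⟩ : A) ⟨_, hv⟩)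

/-- A subgroup of order prime to `p` of the quotient by a `p`-group has an abelian lift of the same
order. -/
theorem exists_lift {M : Subgroup G} [M.Normal] (hM : IsPGroup p M) {A : Subgroup (G ⧸ M)}
    [IsMulCommutative ↥A] (hA : ¬ p ∣ Nat.card ↥A) :
    ∃ L : Subgroup G, IsMulCommutative ↥L ∧ L.map (QuotientGroup.mk' M) = A ∧
      Nat.card ↥L = Nat.card ↥A := by
  set π := QuotientGroup.mk' M
  set At := A.comap π
  have hMA : M ≤ At := fun m hm => by
    show π m ∈ A
    rw [show π m = 1 from (QuotientGroup.eq_one_iff m).2 hm]; exact A.one_mem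
  have hidx : (M.subgroupOf At).index = Nat.card ↥A := by
    have h := Subgroup.relIndex_ker At π
    rw [QuotientGroup.ker_mk', map_comap_eq_self_of_surjective (QuotientGroup.mk'_surjective M)] at h
    exact h
  obtain ⟨k, hk⟩ := IsPGroup.iff_card.1 hM
  have hcop : Nat.Coprime (Nat.card (M.subgroupOf At)) (M.subgroupOf At).index := by
    rw [Nat.card_congr (subgroupOfEquivOfLe hMA).toEquiv, hk, hidx]
    exact Nat.Coprime.pow_left _ ((Nat.Prime.coprime_iff_not_dvd Fact.out).2 hA)
  obtain ⟨K, hK⟩ := exists_right_complement'_of_coprime hcop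
  have hinj : ∀ x ∈ K, π (x : G) = 1 → x = 1 := fun x hx h =>
    (Subgroup.disjoint_def.1 hK.disjoint)
      (mem_subgroupOf.2 ((QuotientGroup.eq_one_iff _).1 h)) hx
  have hcard : Nat.card ↥(K.map At.subtype) = Nat.card ↥A := by
    rw [Subgroup.card_map_of_injective At.subtype_injective, ← hidx, hK.symm.index_eq_card]
  refine ⟨K.map At.subtype, ⟨⟨?_⟩⟩, ?_, hcard⟩
  · rintro ⟨_, a, ha, rfl⟩ ⟨_, b, hb, rfl⟩
    refine Subtype.ext ?_
    show (a : G) * b = b * a
    have h1 : ⁅a, b⁆ = 1 := hinj _ (by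
      rw [commutatorElement_def]; exact mul_mem (mul_mem (mul_mem ha hb) (inv_mem ha)) (inv_mem hb)) (by
        have := commutator_mem_of_abelian (A := A) a.2 b.2
        rw [← At.subtype_apply, map_commutatorElement]
        exact (QuotientGroup.eq_one_iff _).2 this)
    exact congrArg Subtype.val (commutatorElement_eq_one_iff_mul_comm.1 h1)
  · refine eq_of_le_of_card_ge ?_ ?_
    · rintro _ ⟨_, ⟨a, -, rfl⟩, rfl⟩
      exact a.2
    · rw [← hcard]
      refine Nat.card_le_card_of_injective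
        (fun x => (⟨π (x : G), mem_map_of_mem π x.2⟩ : ↥((K.map At.subtype).map π))) ?_
      rintro ⟨_, a, ha, rfl⟩ ⟨_, b, hb, rfl⟩ h
      have h2 : π (a : G) = π b := congrArg Subtype.val h
      have h1 : a * b⁻¹ = 1 := hinj _ (mul_mem ha (inv_mem hb)) (by
        rw [Subgroup.coe_mul, Subgroup.coe_inv, map_mul, map_inv, h2, mul_inv_cancel])
      have h3 : a = b := mul_inv_eq_one.1 h1
      subst h3
      rfl

/-- In a solvable group with conjugate abelian subgroups, a generalized quaternion Sylow subgroup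
has order 8. -/
theorem card_quaternion_eq [Group.IsSolvable G] (hconj : AbConj G) {P : Subgroup G} {n : ℕ} (hn : 1 ≤ n)
    (e : P ≃* QuaternionGroup (2 ^ n)) : n = 1 := by
  by_contra hne
  haveI : NeZero (2 ^ n) := ⟨pow_ne_zero _ two_ne_zero⟩
  -- elements of order 4 in one normal subgroup lie in its commutator subgroup
  obtain ⟨j, hj⟩ : ∃ j, derivedSeries G j = ⊥ := Group.IsSolvable.solvable
  have key : ∀ i, ∃ x ∈ derivedSeries G i, orderOf x = 4 := by
    intro i
    induction i with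
    | zero =>
      exact ⟨((e.symm (QuaternionGroup.xa 0) : P) : G), mem_top _, by
        rw [Subgroup.orderOf_coe, MulEquiv.orderOf_eq, QuaternionGroup.orderOf_xa]⟩
    | succ i ih =>
      obtain ⟨x, hx, hx4⟩ := ih
      haveI := derivedSeries_normal G i
      have hall : ∀ y : G, orderOf y = 4 → y ∈ derivedSeries G i := by
        intro y hy
        obtain ⟨g, hg⟩ := hconj (zpowers x) (zpowers y) inferInstance inferInstance
          (by rw [Nat.card_zpowers, Nat.card_zpowers, hx4, hy])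
        have h1 : zpowers y ≤ derivedSeries G i := by
          rw [hg]
          rintro _ ⟨z, hz, rfl⟩
          exact Subgroup.Normal.conj_mem inferInstance z (zpowers_le.2 hx hz) g
        exact h1 (mem_zpowers y)
      -- so the whole of `P` lies in it
      have hPle : ∀ q : QuaternionGroup (2 ^ n), ((e.symm q : P) : G) ∈ derivedSeries G i := by
        have hxa : ∀ k, ((e.symm (QuaternionGroup.xa k) : P) : G) ∈ derivedSeries G i := fun k =>
          hall _ (by rw [Subgroup.orderOf_coe, MulEquiv.orderOf_eq, QuaternionGroup.orderOf_xa])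
        rintro (k | k)
        · have : QuaternionGroup.a k =
              (QuaternionGroup.xa (0 : ZMod (2 * 2 ^ n)))⁻¹ * QuaternionGroup.xa k := by
            rw [eq_inv_mul_iff_mul_eq]; simp
          rw [this, map_mul, map_inv, Subgroup.coe_mul, Subgroup.coe_inv]
          exact mul_mem (inv_mem (hxa 0)) (hxa k)
        · exact hxa k
      -- a commutator of order a multiple of 4
      set t : QuaternionGroup (2 ^ n) := ⁅QuaternionGroup.xa (0 : ZMod (2 * 2 ^ n)),
        QuaternionGroup.a (1 : ZMod (2 * 2 ^ n))⁆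
      have ht : t = (QuaternionGroup.a 1 ^ 2)⁻¹ := by
        rw [eq_inv_iff_mul_eq_one]
        show QuaternionGroup.xa 0 * QuaternionGroup.a 1 * (QuaternionGroup.xa 0)⁻¹ *
          (QuaternionGroup.a 1)⁻¹ * QuaternionGroup.a 1 ^ 2 = 1
        rw [pow_two, ← mul_assoc, inv_mul_cancel_right, ← eq_inv_iff_mul_eq_one,
          mul_inv_eq_iff_eq_mul, eq_inv_mul_iff_mul_eq]
        simp
      have hto : orderOf t = 2 ^ n := by
        rw [ht, orderOf_inv, orderOf_pow' _ two_ne_zero, QuaternionGroup.orderOf_a_one,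
          Nat.gcd_eq_right (dvd_mul_right 2 (2 ^ n)), Nat.mul_div_cancel_left _ two_pos]
      obtain ⟨n', rfl⟩ : ∃ n', n = n' + 2 := ⟨n - 2, by omega⟩
      refine ⟨(((e.symm t : P) : G)) ^ 2 ^ n', ?_, ?_⟩
      · refine pow_mem ?_ _
        rw [derivedSeries_succ]
        rw [map_commutatorElement]
        exact commutator_mem_commutator (hPle _) (hPle _)
      · rw [orderOf_pow' _ (pow_ne_zero _ two_ne_zero), Subgroup.orderOf_coe, MulEquiv.orderOf_eq,
          hto, Nat.gcd_eq_right (pow_dvd_pow 2 (by omega)), pow_add,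
          Nat.mul_div_cancel_left _ (by positivity)]
        norm_num
  obtain ⟨x, hx, hx4⟩ := key j
  rw [hj, mem_bot] at hx
  rw [hx, orderOf_one] at hx4
  omega

/-- The quotient by a solvable minimal normal subgroup. -/
theorem quotient_minimal [Group.IsSolvable G] (hconj : AbConj G) (M : Subgroup G) [M.Normal]
    (hM : CfsgLib.Base.IsMinimalNormal M) : AbConj (G ⧸ M) := by
  classical
  obtain ⟨p, hp, hMc, hMexp, hMp⟩ := hM.exists_prime inferInstance
  haveI := Fact.mk hp
  haveI := hMc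
  intro A B hA hB hAB
  haveI := hA
  haveI := hB
  set π := QuotientGroup.mk' M with hπdef
  have hπ := QuotientGroup.mk'_surjective M
  by_cases hpA : p ∣ Nat.card ↥A
  swap
  · obtain ⟨L, hL, hLA, hLc⟩ := exists_lift hMp hpA
    obtain ⟨L', hL', hLB, hLc'⟩ := exists_lift hMp (hAB ▸ hpA)
    obtain ⟨g, hg⟩ := hconj L L' hL hL' (by rw [hLc, hLc', hAB])
    exact conj_of_lift hLA hLB hg
  -- `M` has order `p`
  have hMcard : Nat.card ↥M = p := by
    obtain ⟨m, hm⟩ := IsPGroup.iff_card.1 hMp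
    have hm0 : m ≠ 0 := fun h => hM.ne_bot (M.eq_bot_of_card_eq (by rw [hm, h, pow_zero]))
    by_contra hne
    have hm2 : 2 ≤ m := by
      rcases (show m = 1 ∨ 2 ≤ m by omega) with rfl | h
      · exact absurd (by rw [hm, pow_one]) hne
      · exact h
    have hin : ∀ x : G, x ^ p = 1 → x ∈ M := by
      intro x hx
      by_cases hx1 : x = 1
      · rw [hx1]; exact one_mem M
      obtain ⟨⟨y, hy⟩, hy1⟩ := exists_prime_orderOf_dvd_card' p (show p ∣ Nat.card ↥M by
        rw [hm]; exact dvd_pow_self p hm0)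
      obtain ⟨g, hg⟩ := hconj (zpowers y) (zpowers x) inferInstance inferInstance (by
        rw [Nat.card_zpowers, Nat.card_zpowers, orderOf_eq_prime hx hx1, ← hy1, Subgroup.orderOf_mk])
      have h1 : zpowers x ≤ M := by
        rw [hg]
        rintro _ ⟨z, hz, rfl⟩
        exact Subgroup.Normal.conj_mem inferInstance z (zpowers_le.2 hy hz) g
      exact h1 (mem_zpowers x)
    have hexp : ∀ x : G, ∀ k, x ^ p ^ k = 1 → x ^ p = 1 := by
      intro x k
      induction k generalizing x with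
      | zero => intro h; rw [pow_zero, pow_one] at h; rw [h, one_pow]
      | succ k ih =>
        intro h
        have h1 := ih (x ^ p) (by rw [← pow_mul, ← pow_succ', h])
        by_contra hxp
        obtain ⟨D, hD⟩ := Sylow.exists_subgroup_card_pow_prime (G := M) p (n := 2)
          (by rw [hm]; exact pow_dvd_pow p hm2)
        obtain ⟨g, hg⟩ := hconj (D.map M.subtype) (zpowers x)
          (Subgroup.map_isMulCommutative _ _) inferInstance (by
            rw [Subgroup.card_map_of_injective M.subtype_injective, hD, Nat.card_zpowers,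
              orderOf_eq_prime_pow (n := 1) (by rwa [pow_one]) (by rw [sq, pow_mul]; exact h1)])
        have h2 : zpowers x ≤ M := by
          rw [hg]
          rintro _ ⟨_, ⟨z, -, rfl⟩, rfl⟩
          exact Subgroup.Normal.conj_mem inferInstance _ z.2 g
        exact hxp (hMexp x (h2 (mem_zpowers x)))
    -- then `M` is the Sylow subgroup, against `p ∣ |A|`
    obtain ⟨P⟩ : Nonempty (Sylow p G) := inferInstance
    have hPM : (P : Subgroup G) ≤ M := fun x hx => by
      obtain ⟨k, hk⟩ := P.isPGroup' ⟨x, hx⟩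
      exact hin x (hexp x k (by simpa using congrArg Subtype.val hk))
    refine P.not_dvd_index (hpA.trans ?_)
    refine ((Subgroup.card_subgroup_dvd_card A).trans ?_).trans (index_dvd_of_le hPM)
    rw [← Subgroup.index_eq_card]
  have hMeq : ∀ x : G, x ^ p = 1 → x ∈ M := by
    intro x hx
    by_cases hx1 : x = 1
    · rw [hx1]; exact one_mem M
    obtain ⟨g, hg⟩ := hconj M (zpowers x) inferInstance inferInstance (by
      rw [hMcard, Nat.card_zpowers, orderOf_eq_prime hx hx1])
    have h1 : zpowers x ≤ M := by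
      rw [hg]
      rintro _ ⟨z, hz, rfl⟩
      exact Subgroup.Normal.conj_mem inferInstance z hz g
    exact h1 (mem_zpowers x)
  obtain ⟨z, hz1⟩ := isCyclic_of_prime_card hMcard |>.exists_generator (α := M)
  have hzgen : ∀ x ∈ M, x ∈ zpowers (z : G) := fun x hx => by
    obtain ⟨i, hi⟩ := mem_zpowers_iff.1 (hz1 ⟨x, hx⟩)
    exact mem_zpowers_iff.2 ⟨i, by simpa using congrArg Subtype.val hi⟩
  -- subgroups of p-power order are cyclic or generalized quaternion
  have hdich : ∀ S : Subgroup G, IsPGroup p S → IsCyclic S ∨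
      (p = 2 ∧ ∃ n : ℕ, 1 ≤ n ∧ Nonempty (S ≃* QuaternionGroup (2 ^ n))) := by
    intro S hS
    by_cases hzS : (z : G) ∈ S
    · exact CfsgLib.PGroups.isCyclic_or_quaternion_of_unique hS (z := ⟨z, hzS⟩)
        (Subtype.ext (hMexp _ z.2)) fun y hy => by
          obtain ⟨i, hi⟩ := mem_zpowers_iff.1 (hzgen _ (hMeq _ (congrArg Subtype.val hy)))
          exact mem_zpowers_iff.2 ⟨i, Subtype.ext hi⟩
    · refine Or.inl ?_
      have hS1 : S = ⊥ := by
        by_contra hne
        obtain ⟨j, hj⟩ := IsPGroup.iff_card.1 hS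
        obtain ⟨y, hy⟩ := exists_prime_orderOf_dvd_card' p (G := S) (by
          rw [hj]; refine dvd_pow_self p fun hj0 => hne (Subgroup.card_eq_one.1 ?_)
          rw [hj, hj0, pow_zero])
        obtain ⟨i, hi⟩ := mem_zpowers_iff.1 (hzgen _ (hMeq (y : G) (by
          rw [← hy, ← Subgroup.orderOf_coe, pow_orderOf_eq_one])))
        have h2 : zpowers (y : G) = zpowers (z : G) := by
          refine eq_of_le_of_card_ge (zpowers_le.2 (mem_zpowers_iff.2 ⟨i, hi⟩)) ?_
          rw [Nat.card_zpowers, Nat.card_zpowers, Subgroup.orderOf_coe y, hy]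
          exact Nat.le_of_dvd hp.pos (orderOf_dvd_of_pow_eq_one (hMexp _ z.2))
        exact hzS (zpowers_le.1 (h2 ▸ zpowers_le.2 y.2))
      subst hS1
      infer_instance
  -- a Sylow subgroup of a preimage
  have hpre : ∀ (D : Subgroup (G ⧸ M)), IsMulCommutative ↥D → p ∣ Nat.card ↥D →
      ∃ S : Subgroup G, S ≤ D.comap π ∧ IsPGroup p S ∧ M ≤ S ∧ M ≠ S ∧
        (∀ u ∈ D.comap π, ∀ s ∈ S, u * s * u⁻¹ ∈ S) ∧
        (∀ u ∈ D.comap π, u ^ S.relIndex (D.comap π) ∈ S) ∧
        ¬ p ∣ S.relIndex (D.comap π) := by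
    intro D hD hpD
    haveI := hD
    obtain ⟨S⟩ : Nonempty (Sylow p ↥(D.comap π)) := inferInstance
    have hMD : M ≤ D.comap π := fun m hm => by
      show π m ∈ D
      rw [show π m = 1 from (QuotientGroup.eq_one_iff m).2 hm]; exact D.one_mem
    have hMS : M.subgroupOf (D.comap π) ≤ S := by
      obtain ⟨Q, hQ⟩ := (hMp.of_equiv (subgroupOfEquivOfLe hMD).symm).exists_le_sylow
      obtain ⟨g, hg⟩ := MulAction.exists_smul_eq ↥(D.comap π) Q S
      intro m hm
      rw [← hg]
      have h1 : MulAut.conj g⁻¹ m ∈ M.subgroupOf (D.comap π) := by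
        rw [MulAut.conj_apply]
        exact Subgroup.Normal.conj_mem inferInstance m hm g⁻¹
      rw [Sylow.coe_subgroup_smul, Subgroup.mem_pointwise_smul_iff_inv_smul_mem]
      refine hQ ?_
      simpa [MulAut.smul_def] using h1
    set T := (S : Subgroup ↥(D.comap π)).map (D.comap π).subtype
    have hMT : M ≤ T := fun m hm =>
      ⟨⟨m, hMD hm⟩, hMS (mem_subgroupOf.2 hm), rfl⟩
    have hnorm : ∀ u ∈ D.comap π, ∀ s ∈ T, u * s * u⁻¹ ∈ T := by
      rintro u hu _ ⟨s, hs, rfl⟩
      have h1 := hMT (commutator_mem_of_abelian (A := D) hu s.2)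
      rw [show u * (D.comap π).subtype s * u⁻¹ = ⁅u, (s : G)⁆ * (s : G) by
        rw [commutatorElement_def]; simp]
      exact mul_mem h1 ⟨s, hs, rfl⟩
    haveI : (S : Subgroup ↥(D.comap π)).Normal := ⟨fun s hs u => by
      obtain ⟨s', hs', h⟩ := hnorm u u.2 s ⟨s, hs, rfl⟩
      rwa [show u * s * u⁻¹ = s' from Subtype.ext (by simpa using h.symm)]⟩
    have hrel : T.relIndex (D.comap π) = (S : Subgroup ↥(D.comap π)).index := by
      rw [relIndex, subgroupOf, comap_map_eq_self_of_injective (D.comap π).subtype_injective]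
    refine ⟨T, map_subtype_le _, S.isPGroup'.map _, hMT, fun he => ?_, hnorm, fun u hu => ?_, ?_⟩
    · have h1 : ¬ p ∣ T.relIndex (D.comap π) := hrel ▸ S.not_dvd_index
      rw [← he] at h1
      have h2 := Subgroup.relIndex_ker (D.comap π) π
      rw [QuotientGroup.ker_mk', map_comap_eq_self_of_surjective hπ] at h2
      exact h1 (h2 ▸ hpD)
    · rw [hrel]
      exact ⟨⟨u, hu⟩ ^ (S : Subgroup ↥(D.comap π)).index, pow_index_mem _ _, by simp⟩
    · exact hrel ▸ S.not_dvd_index
  -- cyclic Sylow subgroup gives an abelian preimage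
  have hab : ∀ (D : Subgroup (G ⧸ M)) (S : Subgroup G), IsMulCommutative ↥D → IsCyclic S →
      S ≤ D.comap π → IsPGroup p S → M ≤ S → M ≠ S →
      (∀ u ∈ D.comap π, ∀ s ∈ S, u * s * u⁻¹ ∈ S) →
      (∀ u ∈ D.comap π, u ^ S.relIndex (D.comap π) ∈ S) → ¬ p ∣ S.relIndex (D.comap π) →
      IsMulCommutative ↥(D.comap π) := by
    intro D S hD hS hSD hSp hMS hne hnorm hpow hnd
    haveI := hD
    haveI := hS
    obtain ⟨⟨s, hs⟩, hsgen⟩ := IsCyclic.exists_generator (α := S)
    have hSs : ∀ x ∈ S, x ∈ zpowers s := fun x hx => by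
      obtain ⟨i, hi⟩ := mem_zpowers_iff.1 (hsgen ⟨x, hx⟩)
      exact mem_zpowers_iff.2 ⟨i, by simpa using congrArg Subtype.val hi⟩
    -- `M` lies in the p-th powers of `S`
    have hzs : (z : G) ∈ zpowers (s ^ p) := by
      obtain ⟨i, hi⟩ := mem_zpowers_iff.1 (hSs _ (hMS z.2))
      by_cases hdiv : (p : ℤ) ∣ i
      · obtain ⟨j, rfl⟩ := hdiv
        exact mem_zpowers_iff.2 ⟨j, by rw [← hi, zpow_mul, zpow_natCast]⟩
      exfalso
      obtain ⟨k, hk⟩ := IsPGroup.iff_orderOf.1 hSp ⟨s, hs⟩
      rw [Subgroup.orderOf_mk] at hk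
      obtain ⟨a, b, hab⟩ : IsCoprime ((p : ℤ) ^ k) i :=
        ((Nat.prime_iff_prime_int.1 hp).coprime_iff_not_dvd.2 hdiv).pow_left
      refine hne (le_antisymm hMS fun x hx => ?_)
      obtain ⟨j, rfl⟩ := mem_zpowers_iff.1 (hSs x hx)
      refine zpow_mem ?_ j
      rw [← zpow_one s, ← hab, zpow_add, mul_comm a, mul_comm b, zpow_mul, zpow_mul, ← Nat.cast_pow,
        zpow_natCast, ← hk, pow_orderOf_eq_one, one_zpow, one_mul, hi]
      exact zpow_mem z.2 b
    have hcomm1 : ∀ u ∈ D.comap π, ∀ m ∈ M, Commute u m := by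
      intro u hu m hm
      have hus : ⁅u, s⁆ ∈ M := commutator_mem_of_abelian (A := D) hu (hSD hs)
      have h1 : Commute ⁅u, s⁆ s := by
        obtain ⟨i, hi⟩ := mem_zpowers_iff.1 (hSs _ (hMS hus))
        exact hi ▸ (Commute.refl s).zpow_left i
      have h2 : u * s ^ p * u⁻¹ = s ^ p := by
        rw [← conj_pow, show u * s * u⁻¹ = ⁅u, s⁆ * s by rw [commutatorElement_def]; group,
          h1.mul_pow, hMexp _ hus, one_mul]
      have h3 : Commute u (s ^ p) := mul_inv_eq_iff_eq_mul.1 h2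
      obtain ⟨i, hi⟩ := mem_zpowers_iff.1 hzs
      obtain ⟨j, hj⟩ := mem_zpowers_iff.1 (hzgen m hm)
      rw [← hj, ← hi]
      exact ((h3.zpow_right i).zpow_right j)
    refine ⟨⟨fun ⟨u, hu⟩ ⟨v, hv⟩ => Subtype.ext ?_⟩⟩
    show u * v = v * u
    set N := S.relIndex (D.comap π)
    set c := ⁅u, v⁆ with hc
    have hcM : c ∈ M := commutator_mem_of_abelian (A := D) hu hv
    have hpowconj : ∀ a b d : G, a * b * a⁻¹ = d * b → Commute a d → ∀ k : ℕ,
        a ^ k * b * (a ^ k)⁻¹ = d ^ k * b := by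
      intro a b d h had k
      induction k with
      | zero => simp
      | succ k ih =>
        calc a ^ (k + 1) * b * (a ^ (k + 1))⁻¹ = a * (a ^ k * b * (a ^ k)⁻¹) * a⁻¹ := by
              rw [pow_succ']; group
          _ = (a * d ^ k * a⁻¹) * (a * b * a⁻¹) := by rw [ih]; group
          _ = d ^ (k + 1) * b := by
              rw [(had.pow_right k).eq, mul_inv_cancel_right, h, pow_succ, mul_assoc]
    have h1 : u ^ N * v * (u ^ N)⁻¹ = c ^ N * v :=
      hpowconj u v c (by rw [hc, commutatorElement_def]; group) (hcomm1 u hu c hcM) N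
    have h2 : v * u ^ N * v⁻¹ = (c ^ N)⁻¹ * u ^ N := by
      have hcu := ((hcomm1 u hu _ (inv_mem (pow_mem hcM N))).pow_left N).eq
      calc v * u ^ N * v⁻¹ = v * (u ^ N * v * (u ^ N)⁻¹)⁻¹ * u ^ N := by group
        _ = (c ^ N)⁻¹ * u ^ N := by rw [h1, mul_inv_rev, mul_inv_cancel_left]
    have h3 := hpowconj v (u ^ N) _ h2 (hcomm1 v hv _ (inv_mem (pow_mem hcM N))) N
    rw [show v ^ N * u ^ N * (v ^ N)⁻¹ = u ^ N by
      obtain ⟨i, hi⟩ := mem_zpowers_iff.1 (hSs _ (hpow u hu))
      obtain ⟨j, hj⟩ := mem_zpowers_iff.1 (hSs _ (hpow v hv))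
      rw [← hi, ← hj, ← zpow_add, ← zpow_neg, ← zpow_add]
      congr 1; ring, right_eq_mul, inv_pow, inv_eq_one, ← pow_mul] at h3
    have h4 : orderOf c ∣ Nat.gcd p (N * N) :=
      Nat.dvd_gcd (orderOf_dvd_of_pow_eq_one (hMexp c hcM)) (orderOf_dvd_of_pow_eq_one h3)
    rw [show Nat.gcd p (N * N) = 1 from
      ((hp.coprime_iff_not_dvd.2 hnd).mul_right (hp.coprime_iff_not_dvd.2 hnd)), Nat.dvd_one,
      orderOf_eq_one_iff] at h4
    exact commutatorElement_eq_one_iff_mul_comm.1 h4
  obtain ⟨S, hSA, hSp, hMS, hMSne, hSn, hSpow, hSnd⟩ := hpre A hA hpA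
  obtain ⟨T, hTB, hTp, hMT, hMTne, hTn, hTpow, hTnd⟩ := hpre B hB (hAB ▸ hpA)
  have hcardpre : ∀ D : Subgroup (G ⧸ M), Nat.card ↥(D.comap π) = p * Nat.card ↥D := by
    intro D
    have hMD : M ≤ D.comap π := fun m hm => by
      show π m ∈ D
      rw [show π m = 1 from (QuotientGroup.eq_one_iff m).2 hm]; exact D.one_mem
    have h2 := Subgroup.relIndex_ker (D.comap π) π
    rw [QuotientGroup.ker_mk', map_comap_eq_self_of_surjective hπ] at h2
    rw [← h2, ← hMcard, ← relIndex_bot_left M, relIndex_mul_relIndex _ _ _ bot_le hMD,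
      relIndex_bot_left]
  by_cases hboth : IsCyclic S ∧ IsCyclic T
  · obtain ⟨g, hg⟩ := hconj (A.comap π) (B.comap π) (hab A S hA hboth.1 hSA hSp hMS hMSne hSn hSpow hSnd)
      (hab B T hB hboth.2 hTB hTp hMT hMTne hTn hTpow hTnd) (by rw [hcardpre, hcardpre, hAB])
    exact conj_of_lift (map_comap_eq_self_of_surjective hπ A) (map_comap_eq_self_of_surjective hπ B) hg
  -- the Sylow subgroups are quaternion of order 8
  have hsplit : ∀ (D : Subgroup (G ⧸ M)) (S : Subgroup G), S ≤ D.comap π →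
      Nat.card ↥(D.comap π) = Nat.card S * S.relIndex (D.comap π) := by
    intro D S hSD
    rw [← relIndex_bot_left (D.comap π), ← relIndex_mul_relIndex ⊥ S _ bot_le hSD, relIndex_bot_left]
  have hST : Nat.card S = Nat.card T := by
    have h1 := hsplit A S hSA
    have h2 := hsplit B T hTB
    rw [hcardpre, hAB, ← hcardpre, h2] at h1
    obtain ⟨i, hi⟩ := IsPGroup.iff_card.1 hSp
    obtain ⟨j, hj⟩ := IsPGroup.iff_card.1 hTp
    rw [hi, hj] at h1 ⊢
    refine Nat.dvd_antisymm ?_ ?_
    · exact ((hp.coprime_iff_not_dvd.2 hTnd).pow_left i).dvd_of_dvd_mul_right ⟨_, h1⟩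
    · exact ((hp.coprime_iff_not_dvd.2 hSnd).pow_left j).dvd_of_dvd_mul_right ⟨_, h1.symm⟩
  have hfull : ∀ S : Subgroup G, IsPGroup p S → ¬ IsCyclic S →
      p = 2 ∧ ∀ P : Sylow p G, Nat.card (P : Subgroup G) = 8 ∧ Nat.card S = 8 := by
    intro S hS hnc
    obtain ⟨hp2, n, hn, ⟨e⟩⟩ := (hdich S hS).resolve_left hnc
    refine ⟨hp2, fun P => ?_⟩
    obtain ⟨Q, hQ⟩ := hS.exists_le_sylow
    have hQnc : ¬ IsCyclic (Q : Subgroup G) := fun h =>
      hnc (isCyclic_of_injective (Subgroup.inclusion hQ) (Subgroup.inclusion_injective hQ))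
    obtain ⟨-, k, hk, ⟨e'⟩⟩ := (hdich _ Q.isPGroup').resolve_left hQnc
    have hk1 : k = 1 := card_quaternion_eq hconj hk e'
    have hn1 : n = 1 := card_quaternion_eq hconj hn e
    haveI : NeZero (2 ^ (1 : ℕ)) := ⟨pow_ne_zero _ two_ne_zero⟩
    subst hk1 hn1
    refine ⟨?_, ?_⟩
    · rw [show Nat.card (P : Subgroup G) = Nat.card (Q : Subgroup G) from
        Nat.card_congr (Sylow.equiv P Q).toEquiv, Nat.card_congr e'.toEquiv,
        Nat.card_eq_fintype_card, QuaternionGroup.card]
      norm_num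
    · rw [Nat.card_congr e.toEquiv, Nat.card_eq_fintype_card, QuaternionGroup.card]
      norm_num
  have h8 : p = 2 ∧ ∀ P : Sylow p G, Nat.card (P : Subgroup G) = Nat.card S ∧
      Nat.card (P : Subgroup G) = Nat.card T := by
    rcases not_and_or.1 hboth with h | h
    · obtain ⟨h2, h8⟩ := hfull S hSp h
      exact ⟨h2, fun P => ⟨(h8 P).1.trans (h8 P).2.symm, (h8 P).1.trans ((h8 P).2.symm.trans hST)⟩⟩
    · obtain ⟨h2, h8⟩ := hfull T hTp h
      exact ⟨h2, fun P => ⟨(h8 P).1.trans ((h8 P).2.symm.trans hST.symm), (h8 P).1.trans (h8 P).2.symm⟩⟩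
  -- the odd part centralises the 2-part
  have hMcen : ∀ g : G, ∀ m ∈ M, Commute g m := by
    intro g m hm
    by_cases hm1 : m = 1
    · rw [hm1]; exact Commute.one_right g
    by_contra hne
    have h2 : Nat.card ↥M = 2 := hMcard.trans h8.1
    have huniq := (Nat.card_eq_two_iff' (⟨1, M.one_mem⟩ : M)).1 h2
    have he : (⟨g * m * g⁻¹, Subgroup.Normal.conj_mem inferInstance m hm g⟩ : M) = ⟨m, hm⟩ :=
      huniq.unique (fun h => hm1 (by simpa using congrArg Subtype.val h))
        (fun h => hm1 (congrArg Subtype.val h))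
    exact hne (mul_inv_eq_iff_eq_mul.1 (congrArg Subtype.val he) : g * m = m * g)
  have hcompl : ∀ (D : Subgroup (G ⧸ M)) (S : Subgroup G), IsMulCommutative ↥D → S ≤ D.comap π →
      IsPGroup p S → M ≤ S → (∀ u ∈ D.comap π, ∀ s ∈ S, u * s * u⁻¹ ∈ S) →
      ¬ p ∣ S.relIndex (D.comap π) →
      ∃ K : Subgroup G, IsMulCommutative ↥K ∧ Nat.card ↥K = S.relIndex (D.comap π) ∧
        S ⊔ K = D.comap π ∧ S ≤ centralizer (K : Set G) := by
    intro D S hD hSD hS hMS hn hnd
    haveI := hD
    haveI : (S.subgroupOf (D.comap π)).Normal := ⟨fun s hs u => mem_subgroupOf.2 (by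
      simpa using hn u u.2 s (mem_subgroupOf.1 hs))⟩
    obtain ⟨i, hi⟩ := IsPGroup.iff_card.1 hS
    obtain ⟨K, hK⟩ := exists_right_complement'_of_coprime (N := S.subgroupOf (D.comap π)) (by
      rw [Nat.card_congr (subgroupOfEquivOfLe hSD).toEquiv, hi]
      exact (hp.coprime_iff_not_dvd.2 hnd).pow_left i)
    have hKS : ∀ k ∈ K, (k : G) ∈ S → (k : G) = 1 := fun k hk hkS => by
      have := Subgroup.disjoint_def.1 hK.disjoint (mem_subgroupOf.2 hkS) hk
      rw [this]; rfl
    have hKcard : Nat.card K = S.relIndex (D.comap π) := hK.symm.index_eq_card.symm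
    refine ⟨K.map (D.comap π).subtype, ⟨⟨?_⟩⟩, by
      rw [Subgroup.card_map_of_injective (D.comap π).subtype_injective, hKcard], ?_, ?_⟩
    · rintro ⟨_, a, ha, rfl⟩ ⟨_, b, hb, rfl⟩
      refine Subtype.ext (commutatorElement_eq_one_iff_mul_comm.1 ?_)
      refine hKS ⁅a, b⁆ ?_ (hMS ?_)
      · rw [commutatorElement_def]; exact mul_mem (mul_mem (mul_mem ha hb) (inv_mem ha)) (inv_mem hb)
      · exact commutator_mem_of_abelian (A := D) a.2 b.2
    · refine le_antisymm (sup_le hSD (map_subtype_le K)) fun x hx => ?_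
      have hmem : (⟨x, hx⟩ : D.comap π) ∈ S.subgroupOf (D.comap π) ⊔ K := by
        rw [hK.sup_eq_top]; exact mem_top _
      obtain ⟨s, hs, k, hk, hsk⟩ := mem_sup_of_normal_left.1 hmem
      rw [show x = (s : G) * k from (congrArg Subtype.val hsk).symm]
      exact mul_mem (mem_sup_left (mem_subgroupOf.1 hs)) (mem_sup_right ⟨k, hk, rfl⟩)
    · intro s hs
      rw [mem_centralizer_iff]
      rintro _ ⟨k, hk, rfl⟩
      set c := ⁅(k : G), s⁆ with hc
      have hcM : c ∈ M := commutator_mem_of_abelian (A := D) k.2 (hSD hs)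
      have hord : (k : G) ^ S.relIndex (D.comap π) = 1 := by
        rw [← hKcard]
        exact congrArg (fun t : ↥(D.comap π) => (t : G))
          (congrArg Subtype.val (pow_card_eq_one' (x := (⟨k, hk⟩ : K))))
      have hit : ∀ j : ℕ, (k : G) ^ j * s * ((k : G) ^ j)⁻¹ = c ^ j * s := by
        intro j
        induction j with
        | zero => simp
        | succ j ih =>
          calc (k : G) ^ (j + 1) * s * ((k : G) ^ (j + 1))⁻¹
              = (k : G) * ((k : G) ^ j * s * ((k : G) ^ j)⁻¹) * (k : G)⁻¹ := by rw [pow_succ']; group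
            _ = ((k : G) * c ^ j * (k : G)⁻¹) * ((k : G) * s * (k : G)⁻¹) := by rw [ih]; group
            _ = c ^ (j + 1) * s := by
                rw [((hMcen _ c hcM).pow_right j).eq, mul_inv_cancel_right, pow_succ, mul_assoc,
                  hc, commutatorElement_def]
                group
      have h1 := hit (S.relIndex (D.comap π))
      rw [hord, one_mul, inv_one, mul_one, right_eq_mul] at h1
      have h2 : orderOf c ∣ Nat.gcd p (S.relIndex (D.comap π)) :=
        Nat.dvd_gcd (orderOf_dvd_of_pow_eq_one (hMexp c hcM)) (orderOf_dvd_of_pow_eq_one h1)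
      rw [(hp.coprime_iff_not_dvd.2 hnd).gcd_eq_one, Nat.dvd_one, orderOf_eq_one_iff] at h2
      exact commutatorElement_eq_one_iff_mul_comm.1 h2
  obtain ⟨K, hK, hKc, hKsup, hKS⟩ := hcompl A S hA hSA hSp hMS hSn hSnd
  obtain ⟨L, hL, hLc, hLsup, hLT⟩ := hcompl B T hB hTB hTp hMT hTn hTnd
  have hKL : Nat.card ↥K = Nat.card ↥L := by
    have h1 := hsplit A S hSA
    rw [hcardpre, hAB, ← hcardpre, hsplit B T hTB, hST, ← hKc, ← hLc] at h1
    exact (Nat.eq_of_mul_eq_mul_left Nat.card_pos h1).symm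
  obtain ⟨g, hg⟩ := hconj K L hK hL hKL
  set S' := S.map (MulAut.conj g).toMonoidHom with hS'
  have hS'C : S' ≤ centralizer (L : Set G) := by
    rintro _ ⟨s, hs, rfl⟩
    rw [mem_centralizer_iff]
    rintro l hl
    rw [hg] at hl
    obtain ⟨k, hk, rfl⟩ := hl
    have := mem_centralizer_iff.1 (hKS hs) k hk
    simpa [← map_mul] using congrArg (MulAut.conj g) this
  -- both are Sylow subgroups of the centralizer
  have hsyl : ∀ X : Subgroup G, IsPGroup p X → X ≤ centralizer (L : Set G) →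
      (∀ P : Sylow p G, Nat.card (P : Subgroup G) = Nat.card X) →
      ∃ R : Sylow p ↥(centralizer (L : Set G)),
        (R : Subgroup ↥(centralizer (L : Set G))) = X.subgroupOf (centralizer (L : Set G)) := by
    intro X hX hXC hcard
    have hXp := hX.of_equiv (subgroupOfEquivOfLe hXC).symm
    obtain ⟨R, hR⟩ := hXp.exists_le_sylow
    refine ⟨R, (eq_of_le_of_card_ge hR ?_).symm⟩
    obtain ⟨P, hP⟩ := (R.isPGroup'.map (centralizer (L : Set G)).subtype).exists_le_sylow
    rw [Nat.card_congr (subgroupOfEquivOfLe hXC).toEquiv, ← hcard P,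
      ← Subgroup.card_map_of_injective (centralizer (L : Set G)).subtype_injective (K := (R : Subgroup _))]
    exact card_le_of_le hP
  obtain ⟨R, hR⟩ := hsyl S' (hSp.map _) hS'C (fun P => by
    rw [hS', Subgroup.card_map_of_injective (MulAut.conj g).injective]; exact (h8.2 P).1)
  obtain ⟨R', hR'⟩ := hsyl T hTp hLT (fun P => (h8.2 P).2)
  obtain ⟨⟨c, hc⟩, hcR⟩ := MulAction.exists_smul_eq ↥(centralizer (L : Set G)) R R'
  have hST' : T = S'.map (MulAut.conj c).toMonoidHom := by
    have h1 : T.subgroupOf (centralizer (L : Set G)) =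
        (S'.subgroupOf (centralizer (L : Set G))).map
          (MulAut.conj (⟨c, hc⟩ : ↥(centralizer (L : Set G)))).toMonoidHom := by
      rw [← hR, ← hR', ← hcR, Sylow.coe_subgroup_smul]
      rfl
    have h2 := congrArg (Subgroup.map (centralizer (L : Set G)).subtype) h1
    rw [subgroupOf_map_subtype, inf_eq_left.2 hLT, Subgroup.map_map] at h2
    rw [h2]
    conv_rhs => rw [← inf_eq_left.2 hS'C, ← subgroupOf_map_subtype, Subgroup.map_map]
    congr 1
  have hLfix : L = L.map (MulAut.conj c).toMonoidHom := by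
    ext l
    constructor
    · intro hl
      exact ⟨l, hl, by simp [← mem_centralizer_iff.1 hc l hl]⟩
    · rintro ⟨k, hk, rfl⟩
      simpa [← mem_centralizer_iff.1 hc k hk] using hk
  refine conj_of_lift (map_comap_eq_self_of_surjective hπ A) (map_comap_eq_self_of_surjective hπ B)
    (g := c * g) ?_
  rw [← hKsup, ← hLsup, Subgroup.map_sup, map_mul, hST', hS', hLfix, hg, Subgroup.map_map,
    Subgroup.map_map]
  rfl

/-- The property passes to quotients. -/
theorem quotient (n : ℕ) : ∀ (G : Type u) [Group G] [Finite G] [Group.IsSolvable G],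
    Nat.card G = n → AbConj G → ∀ (M : Subgroup G) [M.Normal], AbConj (G ⧸ M) := by
  induction n using Nat.strong_induction_on with
  | _ n ih =>
  intro G _ _ _ hn h M _
  by_cases hM : M = ⊥
  · subst hM
    exact h.of_equiv QuotientGroup.quotientBot.symm
  obtain ⟨M₀, hle, hM₀⟩ := CfsgLib.Base.exists_isMinimalNormal_le hM
  haveI := hM₀.normal
  have h0 := quotient_minimal h M₀ hM₀
  haveI : (M.map (QuotientGroup.mk' M₀)).Normal :=
    Subgroup.Normal.map inferInstance _ (QuotientGroup.mk'_surjective M₀)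
  have hlt : Nat.card (G ⧸ M₀) < n := by
    rw [← hn, Subgroup.card_eq_card_quotient_mul_card_subgroup M₀]
    exact lt_mul_of_one_lt_right Nat.card_pos (M₀.one_lt_card_iff_ne_bot.2 hM₀.ne_bot)
  exact (ih _ hlt (G ⧸ M₀) rfl h0 (M.map (QuotientGroup.mk' M₀))).of_equiv
    (QuotientGroup.quotientQuotientEquivQuotient M₀ M hle)

end CfsgLib.FgsP.AbelianConjQuotient
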