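import Mathlib
import Cfsg.Prelude
import Cfsg.Agent.Lib.OddOrder.FittingHall
import Cfsg.Agent.Lib.Base.Rank

/-!
# Nilpotent minimal covers and abelian Sylow subgroups

Two members of a minimal cover generate `G`; so, with trivial centre and abelian Sylow `p`-subgroups,
a non-identity `p`-element lies in one member only, and a non-elementary abelian Sylow subgroup,
having no non-trivial partition, lies in one member, which is its centraliser.
-/

set_option autoImplicit false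

namespace CfsgLib.FgsP.NilpotentCover

open Subgroup

variable {G : Type*} [Group G] [Finite G] {p : ℕ} [Fact p.Prime]

/-- The cover data. -/
def IsNilMinCover (𝓐 : Finset (Subgroup G)) : Prop :=
  ((∀ A ∈ 𝓐, A ≠ ⊤) ∧ (∀ g : G, ∃ A ∈ 𝓐, g ∈ A)) ∧
    (∀ 𝓑 : Finset (Subgroup G), (∀ A ∈ 𝓑, A ≠ ⊤) ∧ (∀ g : G, ∃ A ∈ 𝓑, g ∈ A) →
      𝓐.card ≤ 𝓑.card) ∧ (∀ A ∈ 𝓐, Group.IsNilpotent ↥A)

theorem sup_eq_top {𝓐 : Finset (Subgroup G)} (h : IsNilMinCover 𝓐) {A B : Subgroup G}
    (hA : A ∈ 𝓐) (hB : B ∈ 𝓐) (hne : A ≠ B) : A ⊔ B = ⊤ := by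
  classical
  by_contra htop
  have h1 := h.2.1 (insert (A ⊔ B) ((𝓐.erase A).erase B)) ⟨fun C hC => ?_, fun g => ?_⟩
  · have h2 := Finset.card_insert_le (A ⊔ B) ((𝓐.erase A).erase B)
    rw [Finset.card_erase_of_mem (Finset.mem_erase.2 ⟨hne.symm, hB⟩),
      Finset.card_erase_of_mem hA] at h2
    have h3 : 2 ≤ 𝓐.card := Finset.one_lt_card.2 ⟨A, hA, B, hB, hne⟩
    omega
  · rcases Finset.mem_insert.1 hC with rfl | hC
    · exact htop
    · exact h.1.1 C (Finset.mem_of_mem_erase (Finset.mem_of_mem_erase hC))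
  · obtain ⟨C, hC, hg⟩ := h.1.2 g
    by_cases hCA : C = A
    · exact ⟨_, Finset.mem_insert_self _ _, mem_sup_left (hCA ▸ hg)⟩
    by_cases hCB : C = B
    · exact ⟨_, Finset.mem_insert_self _ _, mem_sup_right (hCB ▸ hg)⟩
    exact ⟨C, Finset.mem_insert_of_mem (Finset.mem_erase.2 ⟨hCB, Finset.mem_erase.2 ⟨hCA, hC⟩⟩), hg⟩

theorem mem_of_pow_mem_coprime {H : Subgroup G} {g : G} {a b : ℕ} (hab : Nat.Coprime a b)
    (ha : g ^ a ∈ H) (hb : g ^ b ∈ H) : g ∈ H := by
  have h := Nat.gcd_eq_gcd_ab a b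
  rw [show Nat.gcd a b = 1 from hab, Nat.cast_one] at h
  rw [← zpow_one g, h, zpow_add, zpow_mul, zpow_mul, zpow_natCast, zpow_natCast]
  exact mul_mem (zpow_mem ha _) (zpow_mem hb _)

theorem comm_sylow (P : Sylow p G) (hab : IsMulCommutative ↥(P : Subgroup G)) (Q : Sylow p G) :
    IsMulCommutative ↥(Q : Subgroup G) :=
  ⟨⟨fun a b => (Q.equiv P).injective (by rw [map_mul, map_mul]; exact hab.1.1 _ _)⟩⟩

theorem le_centralizer_of_member (P : Sylow p G) (hab : IsMulCommutative ↥(P : Subgroup G))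
    {A : Subgroup G} (hA : Group.IsNilpotent ↥A) {x : G} (hxA : x ∈ A) {k : ℕ}
    (hx : orderOf x = p ^ k) : A ≤ centralizer ({x} : Set G) := by
  intro y hy
  obtain ⟨j, m, hm, hym⟩ := Nat.exists_eq_pow_mul_and_not_dvd (orderOf_pos y).ne' p
    (Fact.out : p.Prime).ne_one
  have hcop : Nat.Coprime (p ^ j) m :=
    ((Fact.out : p.Prime).coprime_iff_not_dvd.2 hm).pow_left j
  refine mem_of_pow_mem_coprime hcop ?_ ?_
  · refine mem_centralizer_singleton_iff.2
      (CfsgLib.OddOrder.commute_of_isNilpotent hA (pow_mem hy _) hxA ?_).eq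
    rw [hx]
    refine ((((Fact.out : p.Prime).coprime_iff_not_dvd.2 hm).pow_left k).symm).coprime_dvd_left ?_
    exact orderOf_dvd_of_pow_eq_one (by rw [← pow_mul, ← hym, pow_orderOf_eq_one])
  · haveI := hA
    obtain ⟨Q⟩ : Nonempty (Sylow p ↥A) := inferInstance
    have hs : ∀ (q : ℕ) (_ : Fact q.Prime) (Q : Sylow q ↥A), (Q : Subgroup ↥A).Normal :=
      ((Group.isNilpotent_of_finite_tfae (G := ↥A)).out 0 3).mp hA
    haveI : (Q : Subgroup ↥A).Normal := hs p inferInstance Q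
    have hmem : ∀ z : G, ∀ hz : z ∈ A, (∃ i, orderOf z = p ^ i) → (⟨z, hz⟩ : A) ∈ Q := by
      rintro z hz ⟨i, hi⟩
      have hzp : IsPGroup p (zpowers (⟨z, hz⟩ : A)) :=
        IsPGroup.of_card (n := i) (by rw [Nat.card_zpowers, Subgroup.orderOf_mk, hi])
      have := Q.is_maximal' (hzp.to_sup_of_normal_right Q.isPGroup') le_sup_right
      exact this.le (mem_sup_left (mem_zpowers _))
    obtain ⟨R, hR⟩ := (Q.isPGroup'.map A.subtype).exists_le_sylow
    have h1 := hR ⟨_, hmem x hxA ⟨k, hx⟩, rfl⟩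
    obtain ⟨i, -, hi⟩ := (Nat.dvd_prime_pow (Fact.out : p.Prime)).1
      (orderOf_dvd_of_pow_eq_one (x := y ^ m) (n := p ^ j)
        (by rw [← pow_mul, mul_comm, ← hym, pow_orderOf_eq_one]))
    have h2 := hR ⟨_, hmem (y ^ m) (pow_mem hy _) ⟨i, hi⟩, rfl⟩
    exact mem_centralizer_singleton_iff.2
      (congrArg Subtype.val ((comm_sylow P hab R).1.1 ⟨_, h2⟩ ⟨_, h1⟩))

/-- A non-identity `p`-element lies in one member only. -/
theorem unique_member {𝓐 : Finset (Subgroup G)} (h : IsNilMinCover 𝓐) (hZ : center G = ⊥)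
    (P : Sylow p G) (hab : IsMulCommutative ↥(P : Subgroup G)) {A B : Subgroup G} (hA : A ∈ 𝓐)
    (hB : B ∈ 𝓐) {x : G} (hxA : x ∈ A) (hxB : x ∈ B) (hx : ∃ k, orderOf x = p ^ k) (hx1 : x ≠ 1) :
    A = B := by
  by_contra hne
  obtain ⟨k, hk⟩ := hx
  have hle := sup_le (le_centralizer_of_member P hab (h.2.2 A hA) hxA hk)
    (le_centralizer_of_member P hab (h.2.2 B hB) hxB hk)
  rw [sup_eq_top h hA hB hne] at hle
  have : x ∈ center G := Subgroup.mem_center_iff.2 fun g =>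
    (mem_centralizer_singleton_iff.1 (hle (mem_top g)))
  rw [hZ, mem_bot] at this
  exact hx1 this

theorem single_member {𝓐 : Finset (Subgroup G)} (h : IsNilMinCover 𝓐) (hZ : center G = ⊥)
    (P : Sylow p G) (hP : IsCyclic ↥(P : Subgroup G) ∨
      (IsMulCommutative ↥(P : Subgroup G) ∧ ¬ Cfsg.IsElementaryAbelian p (P : Subgroup G))) :
    IsMulCommutative ↥(P : Subgroup G) ∧
      ∀ Q : Sylow p G, ∃ A ∈ 𝓐, (Q : Subgroup G) ≤ A := by
  have hab : IsMulCommutative ↥(P : Subgroup G) := by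
    rcases hP with hc | h'
    · haveI := hc; letI := hc.commGroup; exact ⟨⟨fun a b => mul_comm a b⟩⟩
    · exact h'.1
  refine ⟨hab, fun Q => ?_⟩
  have hQP : ∀ z : G, z ∈ (Q : Subgroup G) → ∃ k, orderOf z = p ^ k := fun z hz => by
    obtain ⟨k, hk⟩ := IsPGroup.iff_orderOf.1 Q.isPGroup' ⟨z, hz⟩
    exact ⟨k, by rwa [Subgroup.orderOf_mk] at hk⟩
  rcases hP with hc | ⟨-, hne⟩
  · haveI : IsCyclic ↥(Q : Subgroup G) :=
      isCyclic_of_surjective (P.equiv Q).toMonoidHom (P.equiv Q).surjective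
    obtain ⟨g, hg⟩ := IsCyclic.exists_generator (α := ↥(Q : Subgroup G))
    obtain ⟨A, hA, hgA⟩ := h.1.2 (g : G)
    refine ⟨A, hA, fun z hz => ?_⟩
    obtain ⟨i, hi⟩ := mem_zpowers_iff.1 (hg ⟨z, hz⟩)
    rw [show z = (g : G) ^ i by simpa using (congrArg Subtype.val hi).symm]
    exact zpow_mem hgA i
  have hQc := comm_sylow P hab Q
  obtain ⟨x, hx, hxp⟩ : ∃ x ∈ (Q : Subgroup G), x ^ p ≠ 1 := by
    by_contra! hall
    refine hne ⟨hab, fun a ha => ?_⟩
    have h1 := hall _ (P.equiv Q ⟨a, ha⟩).2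
    have h2 : (P.equiv Q ⟨a, ha⟩) ^ p = 1 := Subtype.ext h1
    rw [← map_pow, map_eq_one_iff _ (P.equiv Q).injective] at h2
    exact congrArg Subtype.val h2
  obtain ⟨A, hA, hxA⟩ := h.1.2 x
  have key : ∀ y ∈ (Q : Subgroup G), y ^ p = 1 → y ∈ A := by
    intro y hy hyp
    obtain ⟨K, hK, hxyK⟩ := h.1.2 (x * y)
    have hc : Commute x y := congrArg Subtype.val (hQc.1.1 ⟨x, hx⟩ ⟨y, hy⟩)
    have hxK : x ^ p ∈ K := by
      have := pow_mem hxyK p
      rwa [hc.mul_pow, hyp, mul_one] at this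
    have := unique_member h hZ P hab hA hK (pow_mem hxA p) hxK (hQP _ (pow_mem hx p)) hxp
    subst this
    exact (mul_mem_cancel_left hxA).1 hxyK
  refine ⟨A, hA, fun y hy => ?_⟩
  by_cases hy1 : y = 1
  · rw [hy1]; exact one_mem A
  obtain ⟨K, hK, hyK⟩ := h.1.2 y
  obtain ⟨k, hk⟩ := hQP y hy
  have hk1 : k ≠ 0 := fun h0 => hy1 (orderOf_eq_one_iff.1 (by rw [hk, h0, pow_zero]))
  have hz : orderOf (y ^ p ^ (k - 1)) = p := by
    rw [orderOf_pow' _ (pow_ne_zero _ (Fact.out : p.Prime).ne_zero), hk,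
      Nat.gcd_eq_right (pow_dvd_pow p (Nat.sub_le k 1)),
      Nat.pow_div (Nat.sub_le k 1) (Fact.out : p.Prime).pos, Nat.sub_sub_self (Nat.pos_of_ne_zero hk1),
      pow_one]
  have hzA := key _ (pow_mem hy _) (by
    have := pow_orderOf_eq_one (y ^ p ^ (k - 1)); rwa [hz] at this)
  have := unique_member h hZ P hab hA hK hzA (pow_mem hyK _) (hQP _ (pow_mem hy _))
    (fun h1 => (Fact.out : p.Prime).ne_one (by rw [← hz, h1, orderOf_one]))
  exact this ▸ hyK

/-- The structure in the non-elementary or cyclic case. -/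
theorem main {𝓐 : Finset (Subgroup G)} (h : IsNilMinCover 𝓐) (hZ : center G = ⊥)
    (P : Sylow p G) (hP : IsCyclic ↥(P : Subgroup G) ∨
      (IsMulCommutative ↥(P : Subgroup G) ∧ ¬ Cfsg.IsElementaryAbelian p (P : Subgroup G)))
    (hnn : ¬ (P : Subgroup G).Normal) :
    ∃ A ∈ 𝓐, (P : Subgroup G) ≤ A ∧ centralizer ((P : Subgroup G) : Set G) = A ∧
      IsCoatom (normalizer ((P : Subgroup G) : Set G)) ∧
      (∀ M : Subgroup G, IsCoatom M → A ≤ M → M = normalizer ((P : Subgroup G) : Set G)) ∧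
      (∀ g : G, g ∉ normalizer ((P : Subgroup G) : Set G) →
        ¬ p ∣ Nat.card ↥(normalizer ((P : Subgroup G) : Set G) ⊓
          (normalizer ((P : Subgroup G) : Set G)).map (MulAut.conj g).toMonoidHom)) := by
  obtain ⟨hab, hall⟩ := single_member h hZ P hP
  obtain ⟨A, hA, hPA⟩ := hall P
  set N := normalizer ((P : Subgroup G) : Set G)
  have hPp : ∀ z : G, z ∈ (P : Subgroup G) → ∃ k, orderOf z = p ^ k := fun z hz => by
    obtain ⟨k, hk⟩ := IsPGroup.iff_orderOf.1 P.isPGroup' ⟨z, hz⟩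
    exact ⟨k, by rwa [Subgroup.orderOf_mk] at hk⟩
  have hP1 : (P : Subgroup G) ≠ ⊥ := fun h0 => hnn (h0 ▸ inferInstance)
  obtain ⟨⟨x₀, hx₀⟩, hx₀1⟩ := Subgroup.ne_bot_iff_exists_ne_one.1 hP1
  -- centralizers of elements of `P`
  have hCx : ∀ x ∈ (P : Subgroup G), x ≠ 1 → centralizer ({x} : Set G) = A := by
    intro x hx hx1
    obtain ⟨k, hk⟩ := hPp x hx
    refine le_antisymm (fun y hy => ?_) (le_centralizer_of_member P hab (h.2.2 A hA) (hPA hx) hk)
    obtain ⟨j, m, hm, hym⟩ := Nat.exists_eq_pow_mul_and_not_dvd (orderOf_pos y).ne' p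
      (Fact.out : p.Prime).ne_one
    have hc : Commute y x := mem_centralizer_singleton_iff.1 hy
    refine mem_of_pow_mem_coprime (((Fact.out : p.Prime).coprime_iff_not_dvd.2 hm).pow_left j) ?_ ?_
    · obtain ⟨K, hK, hvK⟩ := h.1.2 (x * y ^ p ^ j)
      have hvo : orderOf (y ^ p ^ j) ∣ m :=
        orderOf_dvd_of_pow_eq_one (by rw [← pow_mul, ← hym, pow_orderOf_eq_one])
      have hxm : x ^ m ∈ K := by
        have := pow_mem hvK m
        rwa [((hc.pow_left _).symm).mul_pow, orderOf_dvd_iff_pow_eq_one.1 hvo, mul_one] at this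
      have hxK : x ∈ K := mem_of_pow_mem_coprime
        (((Fact.out : p.Prime).coprime_iff_not_dvd.2 hm).pow_left k)
        (by rw [← hk, pow_orderOf_eq_one]; exact one_mem K) hxm
      have := unique_member h hZ P hab hA hK (hPA hx) hxK ⟨k, hk⟩ hx1
      subst this
      exact (mul_mem_cancel_left hxK).1 hvK
    · have hu : (y ^ m) ^ p ^ j = 1 := by rw [← pow_mul, mul_comm, ← hym, pow_orderOf_eq_one]
      obtain ⟨i, -, hi⟩ := (Nat.dvd_prime_pow (Fact.out : p.Prime)).1 (orderOf_dvd_of_pow_eq_one hu)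
      have hX : IsPGroup p ↥(zpowers (y ^ m) ⊔ zpowers x) := by
        refine IsPGroup.to_sup_of_normal_right' (IsPGroup.of_card (n := i) (by
          rw [Nat.card_zpowers, hi])) (IsPGroup.of_card (n := k) (by rw [Nat.card_zpowers, hk]))
          (zpowers_le.2 ?_)
        refine centralizer_le_normalizer _ (mem_centralizer_iff.2 fun z hz => ?_)
        obtain ⟨t, rfl⟩ := mem_zpowers_iff.1 hz
        exact ((hc.pow_left m).zpow_right t).eq.symm
      obtain ⟨R, hR⟩ := hX.exists_le_sylow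
      obtain ⟨B, hB, hRB⟩ := hall R
      have := unique_member h hZ P hab hA hB (hPA hx)
        (hRB (hR (mem_sup_right (mem_zpowers x)))) ⟨k, hk⟩ hx1
      subst this
      exact hRB (hR (mem_sup_left (mem_zpowers _)))
  have hCP : centralizer ((P : Subgroup G) : Set G) = A := by
    refine le_antisymm (fun y hy => ?_) fun a ha => mem_centralizer_iff.2 fun z hz => ?_
    · rw [← hCx x₀ hx₀ (fun h1 => hx₀1 (Subtype.ext h1))]
      exact mem_centralizer_singleton_iff.2 (mem_centralizer_iff.1 hy x₀ hx₀).symm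
    · by_cases hz1 : z = 1
      · rw [hz1, one_mul, mul_one]
      · have := (hCx z hz hz1).ge ha
        exact (mem_centralizer_singleton_iff.1 this).symm
  -- a Sylow subgroup inside `A` is `P`
  have huniq : ∀ R : Sylow p G, (R : Subgroup G) ≤ A → R = P := by
    intro R hR
    have hle : (R : Subgroup G) ≤ N := hR.trans (hCP ▸ centralizer_le_normalizer (P : Set G))
    have := P.is_maximal' (R.isPGroup'.to_sup_of_normal_right' P.isPGroup' hle) le_sup_right
    exact (Sylow.ext (R.is_maximal' P.isPGroup' (this ▸ le_sup_left))).symm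
  -- no proper overgroup of `N` and no further maximal overgroup of `A`
  have hNtop : N ≠ ⊤ := fun h0 => hnn (normalizer_eq_top_iff.1 h0)
  have hMle : ∀ M : Subgroup G, M ≠ ⊤ → A ≤ M → M ≤ N := by
    intro M hM hAM m hm
    obtain ⟨B, hB, hB'⟩ := hall (m • P)
    have hconj : ∀ z ∈ (P : Subgroup G), m * z * m⁻¹ ∈ ((m • P : Sylow p G) : Subgroup G) :=
      fun z hz => by
        rw [Sylow.coe_subgroup_smul]
        exact Subgroup.smul_mem_pointwise_smul z (MulAut.conj m) _ hz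
    have hBA : B = A := by
      by_contra hne
      refine hM (top_le_iff.1 ((sup_eq_top h hB hA hne).ge.trans (sup_le (fun y hy => ?_) hAM)))
      have hx1 : x₀ ≠ 1 := fun h1 => hx₀1 (Subtype.ext h1)
      have hw : orderOf (m * x₀ * m⁻¹) = orderOf x₀ := by
        rw [← MulAut.conj_apply, MulEquiv.orderOf_eq]
      obtain ⟨k, hk⟩ := hPp x₀ hx₀
      have hc := le_centralizer_of_member P hab (h.2.2 B hB) (hB' (hconj x₀ hx₀))
        (hw.trans hk) hy
      have : m⁻¹ * y * m ∈ A := by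
        rw [← hCx x₀ hx₀ hx1, mem_centralizer_singleton_iff]
        have e := mem_centralizer_singleton_iff.1 hc
        calc m⁻¹ * y * m * x₀ = m⁻¹ * (y * (m * x₀ * m⁻¹)) * m := by group
          _ = m⁻¹ * (m * x₀ * m⁻¹ * y) * m := by rw [e]
          _ = x₀ * (m⁻¹ * y * m) := by group
      have := mul_mem (mul_mem hm (hAM this)) (inv_mem hm)
      rwa [show m * (m⁻¹ * y * m) * m⁻¹ = y by group] at this
    rw [hBA] at hB'
    exact Sylow.smul_eq_iff_mem_normalizer.1 (huniq _ hB')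
  have hAN : A ≤ N := hCP ▸ centralizer_le_normalizer (P : Set G)
  have hco : IsCoatom N := ⟨hNtop, fun M hM => by
    by_contra hne
    exact hM.not_ge (hMle M hne (hAN.trans hM.le))⟩
  refine ⟨A, hA, hPA, hCP, hco, fun M hM hAM => ?_, fun g hg hdvd => ?_⟩
  · rcases (hMle M hM.1 hAM).eq_or_lt with h1 | h1
    · exact h1
    · exact absurd (hM.2 N h1) hNtop
  · obtain ⟨⟨w, hwN, hwg⟩, hw⟩ := exists_prime_orderOf_dvd_card' p hdvd
    rw [← Subgroup.orderOf_coe] at hw
    change orderOf w = p at hw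
    obtain ⟨v, hv, hvw⟩ := hwg
    have hmemP : ∀ z ∈ N, orderOf z = p → z ∈ (P : Subgroup G) := fun z hz hzo => by
      have h1 : IsPGroup p (zpowers z) :=
        IsPGroup.of_card (n := 1) (by rw [Nat.card_zpowers, hzo, pow_one])
      have := P.is_maximal' (h1.to_sup_of_normal_right' P.isPGroup' (zpowers_le.2 hz)) le_sup_right
      exact this.le (mem_sup_left (mem_zpowers _))
    have hwP := hmemP w hwN hw
    have hvo : orderOf v = p := by
      have h2 : (MulAut.conj g) v = w := hvw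
      rw [← hw, ← h2, MulEquiv.orderOf_eq]
    have hvP := hmemP v hv hvo
    have hwgP : w ∈ ((g • P : Sylow p G) : Subgroup G) := by
      rw [Sylow.coe_subgroup_smul, ← hvw]
      exact Subgroup.smul_mem_pointwise_smul v (MulAut.conj g) _ hvP
    have hle : ((g • P : Sylow p G) : Subgroup G) ≤ A := fun z hz => by
      rw [← hCx w hwP (fun h1 => (Fact.out : p.Prime).ne_one (by rw [← hw, h1, orderOf_one])),
        mem_centralizer_singleton_iff]
      exact congrArg Subtype.val ((comm_sylow P hab (g • P)).1.1 ⟨z, hz⟩ ⟨w, hwgP⟩)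
    exact hg (Sylow.smul_eq_iff_mem_normalizer.1 (huniq _ hle))

end CfsgLib.FgsP.NilpotentCover
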