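import Mathlib
import Cfsg.Agent.Lib.FgsP.NilpotentCover

/-!
# Covers and point stabilisers

In a transitive action the point stabilisers together with the members of a cover that contain the
fixed-point-free elements form a cover, so a minimal cover has few members with fixed points.
-/

set_option autoImplicit false
set_option linter.style.haveILetI false

namespace CfsgLib.FgsP.NilpotentCoverAction

open Subgroup
open CfsgLib.FgsP.NilpotentCover

variable {G X : Type*} [Group G] [MulAction G X]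

/-- The point stabilisers and a set `R` of members catching all fixed-point-free elements beat a
cover with more than `|X|` members outside `R`. -/
theorem false_of_card [Finite G] [Finite X] {𝓐 : Finset (Subgroup G)} (h : IsNilMinCover 𝓐)
    (hst : ∀ x : X, MulAction.stabilizer G x ≠ ⊤) {S R : Finset (Subgroup G)} (hS : S ⊆ 𝓐)
    (hR : R ⊆ 𝓐) (hdisj : Disjoint S R)
    (hfree : ∀ g : G, (∀ x : X, g • x ≠ x) → ∃ A ∈ R, g ∈ A) (hbig : Nat.card X < S.card) :
    False := by
  classical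
  haveI := Fintype.ofFinite X
  have h1 := h.2.1 (Finset.univ.image (MulAction.stabilizer G (α := X)) ∪ R) ⟨fun C hC => ?_, fun g => ?_⟩
  · have h2 := (h1.trans (Finset.card_union_le _ _)).trans
      (Nat.add_le_add_right Finset.card_image_le _)
    have h3 : (S ∪ R).card ≤ 𝓐.card := Finset.card_le_card (Finset.union_subset hS hR)
    rw [Finset.card_union_of_disjoint hdisj] at h3
    rw [Finset.card_univ, ← Nat.card_eq_fintype_card] at h2
    omega
  · rcases Finset.mem_union.1 hC with hC | hC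
    · obtain ⟨x, -, rfl⟩ := Finset.mem_image.1 hC
      exact hst x
    · exact h.1.1 C (hR hC)
  · by_cases hg : ∃ x : X, g • x = x
    · obtain ⟨x, hx⟩ := hg
      exact ⟨_, Finset.mem_union_left _ (Finset.mem_image_of_mem _ (Finset.mem_univ x)),
        MulAction.mem_stabilizer_iff.2 hx⟩
    · obtain ⟨A, hA, hgA⟩ := hfree g fun x hx => hg ⟨x, hx⟩
      exact ⟨A, Finset.mem_union_right _ hA, hgA⟩

/-- The `p`-elements of a nilpotent subgroup form a normal subgroup of it. -/
theorem exists_pPart [Finite G] (p : ℕ) [hp : Fact p.Prime] {A : Subgroup G}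
    (hA : Group.IsNilpotent ↥A) :
    ∃ K : Subgroup G, K ≤ A ∧ IsPGroup p K ∧ (∀ a ∈ A, ∀ k ∈ K, a⁻¹ * k * a ∈ K) ∧
      ∀ u ∈ A, (∃ j, orderOf u = p ^ j) → u ∈ K := by
  obtain ⟨Q⟩ : Nonempty (Sylow p ↥A) := inferInstance
  have hs : ∀ (q : ℕ) (_ : Fact q.Prime) (Q : Sylow q ↥A), (Q : Subgroup ↥A).Normal :=
    ((Group.isNilpotent_of_finite_tfae (G := ↥A)).out 0 3).mp hA
  haveI hQn : (Q : Subgroup ↥A).Normal := hs p hp Q
  refine ⟨(Q : Subgroup ↥A).map A.subtype, map_subtype_le _, Q.isPGroup'.map _, ?_, ?_⟩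
  · rintro a ha k ⟨k', hk', rfl⟩
    exact ⟨(⟨a, ha⟩ : A)⁻¹ * k' * ⟨a, ha⟩, by
      have := hQn.conj_mem k' hk' (⟨a, ha⟩ : A)⁻¹
      rwa [inv_inv] at this, rfl⟩
  · rintro u hu ⟨j, hj⟩
    have hup : IsPGroup p (zpowers (⟨u, hu⟩ : A)) :=
      IsPGroup.iff_card.2 ⟨j, by rw [Nat.card_zpowers, Subgroup.orderOf_mk, hj]⟩
    obtain ⟨R, hR⟩ := hup.exists_le_sylow
    haveI := Sylow.unique_of_normal Q hQn
    exact ⟨⟨u, hu⟩, Subsingleton.elim R Q ▸ hR (mem_zpowers _), rfl⟩

/-- Two `p`-elements of a nilpotent subgroup have product of `p`-power order. -/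
theorem orderOf_mul [Finite G] (p : ℕ) [hp : Fact p.Prime] {A : Subgroup G}
    (hA : Group.IsNilpotent ↥A) {u v : G} (hu : u ∈ A) (hv : v ∈ A)
    (hup : ∃ j, orderOf u = p ^ j) (hvp : ∃ j, orderOf v = p ^ j) : ∃ j, orderOf (u * v) = p ^ j := by
  obtain ⟨K, -, hK, -, hmem⟩ := exists_pPart p hA
  obtain ⟨j, hj⟩ := IsPGroup.iff_orderOf.1 hK ⟨u * v, mul_mem (hmem u hu hup) (hmem v hv hvp)⟩
  exact ⟨j, by rwa [Subgroup.orderOf_mk] at hj⟩

/-- A nilpotent subgroup containing a `p`-element with a single fixed point fixes that point. -/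
theorem fixes_point [Finite G] [Finite X] (p : ℕ) [hp : Fact p.Prime] (hX : ¬ p ∣ Nat.card X)
    {A : Subgroup G} (hA : Group.IsNilpotent ↥A) {u : G} (hu : u ∈ A) (hup : ∃ j, orderOf u = p ^ j)
    {x : X} (hfix : ∀ y : X, u • y = y → y = x) : ∀ a ∈ A, a • x = x := by
  obtain ⟨K, -, hK, hconj, hmem⟩ := exists_pPart p hA
  obtain ⟨z, hz⟩ := hK.nonempty_fixed_point_of_prime_not_dvd_card X hX
  have hzx : z = x := hfix z (hz ⟨u, hmem u hu hup⟩)
  subst hzx
  intro a ha
  refine hfix _ ?_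
  have h1 : (a⁻¹ * u * a) • z = z := hz ⟨_, hconj a ha u (hmem u hu hup)⟩
  calc u • a • z = (a * (a⁻¹ * u * a)) • z := by rw [← mul_smul]; group
    _ = a • z := by rw [mul_smul, h1]

/-- An element of order `r` has no fixed point when `r ≥ 3` divides the number of points and only the
identity fixes three points. -/
theorem not_fixed [Finite G] [Finite X] {r : ℕ} [hr : Fact r.Prime] (h3 : 3 ≤ r) (hX : r ∣ Nat.card X)
    (hsharp : ∀ (g : G) (a b c : X), a ≠ b → a ≠ c → b ≠ c → g • a = a → g • b = b → g • c = c → g = 1)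
    {y : G} (hy : orderOf y = r) (x : X) : y • x ≠ x := by
  classical
  intro hx
  have hP : IsPGroup r (zpowers y) := IsPGroup.iff_card.2 ⟨1, by rw [Nat.card_zpowers, hy, pow_one]⟩
  have hmod := hP.card_modEq_card_fixedPoints X
  set Φ := MulAction.fixedPoints (zpowers y) X
  have hxΦ : x ∈ Φ := by
    rintro ⟨g, hg⟩
    exact MulAction.mem_stabilizer_iff.1
      ((zpowers_le.2 (MulAction.mem_stabilizer_iff.2 hx) : zpowers y ≤ MulAction.stabilizer G x) hg)
  have hdvd : r ∣ Nat.card Φ :=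
    Nat.modEq_zero_iff_dvd.1 (hmod.symm.trans (Nat.modEq_zero_iff_dvd.2 hX))
  haveI : Nonempty Φ := ⟨⟨x, hxΦ⟩⟩
  haveI := Fintype.ofFinite Φ
  have hcard : 2 < Fintype.card Φ := by
    rw [← Nat.card_eq_fintype_card]
    have := Nat.le_of_dvd Nat.card_pos hdvd
    omega
  obtain ⟨a, b, c, hab, hac, hbc⟩ := Fintype.two_lt_card_iff.1 hcard
  have key : ∀ w : Φ, y • (w : X) = w := fun w => w.2 ⟨y, mem_zpowers y⟩
  have h1 := hsharp y a b c (fun e => hab (Subtype.ext e)) (fun e => hac (Subtype.ext e))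
    (fun e => hbc (Subtype.ext e)) (key a) (key b) (key c)
  rw [h1, orderOf_one] at hy
  omega

/-- A nilpotent subgroup containing a fixed-point-free element of order `r` is semiregular. -/
theorem semiregular [Finite G] [Finite X] {r : ℕ} [hr : Fact r.Prime] (h3 : 3 ≤ r)
    (hX : r ∣ Nat.card X)
    (hsharp : ∀ (g : G) (a b c : X), a ≠ b → a ≠ c → b ≠ c → g • a = a → g • b = b → g • c = c → g = 1)
    {A : Subgroup G} (hA : Group.IsNilpotent ↥A) {y : G} (hyA : y ∈ A) (hy : orderOf y = r)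
    {a : G} (ha : a ∈ A) {x : X} (hx : a • x = x) : a = 1 := by
  by_contra ha1
  obtain ⟨s, hs, hsd⟩ := Nat.exists_prime_and_dvd (mt orderOf_eq_one_iff.1 ha1)
  haveI := Fact.mk hs
  set b := a ^ (orderOf a / s) with hb
  have hbs : orderOf b = s := orderOf_pow_orderOf_div (orderOf_pos a).ne' hsd
  have hbx : b • x = x := MulAction.mem_stabilizer_iff.1
    (pow_mem (MulAction.mem_stabilizer_iff.2 hx) _)
  by_cases hsr : s = r
  · exact not_fixed h3 hX hsharp (hbs.trans hsr) x hbx
  have hc : Commute b y := CfsgLib.OddOrder.commute_of_isNilpotent hA (pow_mem ha _) hyA (by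
    rw [hbs, hy]; exact (Nat.coprime_primes hs hr.out).2 hsr)
  have hy2 : orderOf (y ^ 2) = r := by
    rw [Nat.Coprime.orderOf_pow]
    · exact hy
    · rw [hy]; exact hr.out.coprime_iff_not_dvd.2 fun h => absurd (Nat.le_of_dvd (by omega) h) (by omega)
  have e1 : b • y • x = y • x := by rw [← mul_smul, hc.eq, mul_smul, hbx]
  have e2 : b • (y ^ 2) • x = (y ^ 2) • x := by
    rw [← mul_smul, (hc.pow_right 2).eq, mul_smul, hbx]
  have n1 := not_fixed h3 hX hsharp hy x
  have n2 := not_fixed h3 hX hsharp hy2 x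
  have n3 : (y ^ 2) • x ≠ y • x := by
    rw [sq, mul_smul]; exact fun e => n1 (MulAction.injective y e)
  have := hsharp b x (y • x) ((y ^ 2) • x) n1.symm n2.symm n3.symm hbx e1 e2
  rw [this, orderOf_one] at hbs
  exact hs.one_lt.ne hbs

end CfsgLib.FgsP.NilpotentCoverAction
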