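import Mathlib

/-!
# A pair of regular unipotent matrices

Both fix the first coordinate line and no other, and their product is not unipotent.
-/

set_option autoImplicit false
set_option linter.style.haveILetI false

namespace CfsgLib.FgsP.UnipotentPair

open Matrix

variable {F : Type*} [Field F]

/-- The regular unipotent Jordan block. -/
def jordan (F : Type*) [Field F] (n : ℕ) : Matrix (Fin n) (Fin n) F :=
  Matrix.of fun i j => if i = j then 1 else if (j : ℕ) = i + 1 then 1 else 0

theorem det_jordan (n : ℕ) : (jordan F n).det = 1 := by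
  have h : (jordan F n).IsUpperTriangular := by
    intro i j hij
    have hij' : (j : ℕ) < i := hij
    simp only [jordan, Matrix.of_apply]
    rw [if_neg (by intro e; rw [e] at hij'; omega), if_neg (by omega)]
  rw [Matrix.det_of_isUpperTriangular h]
  exact Finset.prod_eq_one fun i _ => by simp [jordan]

theorem jordan_mulVec (n : ℕ) (v : Fin n → F) (i : Fin n) :
    (jordan F n *ᵥ v) i = v i + if h : (i : ℕ) + 1 < n then v ⟨i + 1, h⟩ else 0 := by
  classical
  simp only [Matrix.mulVec, dotProduct, jordan, Matrix.of_apply]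
  rw [← Finset.add_sum_erase _ _ (Finset.mem_univ i), if_pos rfl, one_mul]
  congr 1
  split_ifs with h
  · rw [Finset.sum_eq_single ⟨(i : ℕ) + 1, h⟩]
    · rw [if_neg (fun e => by have := congrArg Fin.val e; simp at this), if_pos rfl, one_mul]
    · intro j hj hne
      rw [if_neg (Finset.ne_of_mem_erase hj).symm,
        if_neg (fun e => hne (Fin.ext e)), zero_mul]
    · intro hnot
      exact absurd (Finset.mem_erase.2 ⟨fun e => by have := congrArg Fin.val e; simp at this,
        Finset.mem_univ _⟩) hnot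
  · refine Finset.sum_eq_zero fun j hj => ?_
    rw [if_neg (Finset.ne_of_mem_erase hj).symm,
      if_neg (fun (e : (j : ℕ) = i + 1) => h (e ▸ j.2)), zero_mul]

theorem jordan_eigen (n : ℕ) {c : F} {v : Fin n → F} (hv : jordan F n *ᵥ v = c • v) (hv0 : v ≠ 0) :
    ∀ i : Fin n, (i : ℕ) ≠ 0 → v i = 0 := by
  have key : ∀ i : Fin n, (c - 1) * v i = if h : (i : ℕ) + 1 < n then v ⟨i + 1, h⟩ else 0 := by
    intro i
    have h1 := congrFun hv i
    rw [jordan_mulVec, Pi.smul_apply, smul_eq_mul] at h1
    linear_combination -h1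
  by_cases hc : c = 1
  · intro i hi
    have h1 := key ⟨(i : ℕ) - 1, by omega⟩
    rw [hc, sub_self, zero_mul, dif_pos (show (i : ℕ) - 1 + 1 < n by omega)] at h1
    have e : (⟨(i : ℕ) - 1 + 1, by omega⟩ : Fin n) = i := Fin.ext (by simp; omega)
    rw [e] at h1
    exact h1.symm
  · exfalso
    apply hv0
    have hall : ∀ k (i : Fin n), n - (i : ℕ) ≤ k → v i = 0 := by
      intro k
      induction k with
      | zero => intro i hi; omega
      | succ k ih =>
        intro i hi
        have h1 := key i
        split_ifs at h1 with h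
        · rw [ih ⟨(i : ℕ) + 1, h⟩ (show n - ((i : ℕ) + 1) ≤ k by omega), mul_eq_zero] at h1
          exact h1.resolve_left (sub_ne_zero.2 hc)
        · exact (mul_eq_zero.1 h1).resolve_left (sub_ne_zero.2 hc)
    ext i
    exact hall n i (by omega)

theorem jordan_pow_char (n p : ℕ) [Fact p.Prime] [CharP F p] : jordan F n ^ p ^ n = 1 := by
  rcases Nat.eq_zero_or_pos n with rfl | hn
  · exact Subsingleton.elim _ _
  haveI : Nonempty (Fin n) := ⟨⟨0, hn⟩⟩
  haveI : CharP (Matrix (Fin n) (Fin n) F) p := inferInstance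
  have hN : ∀ (k : ℕ) (i j : Fin n), (j : ℕ) < i + k → ((jordan F n - 1) ^ k) i j = 0 := by
    intro k
    induction k with
    | zero =>
      intro i j hij
      rw [pow_zero, Matrix.one_apply_ne]
      intro e; rw [e] at hij; omega
    | succ k ih =>
      intro i j hij
      rw [pow_succ, Matrix.mul_apply]
      refine Finset.sum_eq_zero fun l _ => ?_
      by_cases hl : (l : ℕ) < i + k
      · rw [ih i l hl, zero_mul]
      · have hne : (j : ℕ) ≠ l + 1 := by omega
        by_cases he : l = j
        · subst he; simp [jordan]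
        · simp [jordan, Matrix.one_apply_ne he, he, hne]
  have h0 : (jordan F n - 1) ^ p ^ n = 0 := by
    ext i j
    exact hN _ i j (by have := j.2; have := Nat.lt_pow_self (n := n) (Fact.out : p.Prime).one_lt; omega)
  rw [sub_pow_char_pow_of_commute (x := jordan F n) (y := 1) (p := p) (n := n) (Commute.one_right _), one_pow, sub_eq_zero] at h0
  exact h0

theorem val_two_fin (m : ℕ) : ((2 : Fin (m + 3)) : ℕ) = 2 := by
  exact Nat.mod_eq_of_lt (show 2 < m + 3 by omega)

/-- The second regular unipotent matrix. -/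
def jordanSwap (F : Type*) [Field F] (m : ℕ) : Matrix (Fin (m + 3)) (Fin (m + 3)) F :=
  (jordan F (m + 3)).submatrix (Equiv.swap (1 : Fin (m + 3)) 2) (Equiv.swap (1 : Fin (m + 3)) 2)

theorem det_jordanSwap (m : ℕ) : (jordanSwap F m).det = 1 := by
  rw [jordanSwap, Matrix.det_submatrix_equiv_self, det_jordan]

theorem jordanSwap_pow (m p : ℕ) [Fact p.Prime] [CharP F p] : jordanSwap F m ^ p ^ (m + 3) = 1 := by
  have h := congrArg (Matrix.reindexAlgEquiv F F (Equiv.swap (1 : Fin (m + 3)) 2))
    (jordan_pow_char (F := F) (m + 3) p)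
  rw [map_pow, map_one] at h
  convert h using 2
  simp [jordanSwap]

theorem swap_zero (m : ℕ) : Equiv.swap (1 : Fin (m + 3)) 2 0 = 0 :=
  Equiv.swap_apply_of_ne_of_ne (by intro e; have := congrArg Fin.val e; simp at this)
    (by intro e; have := congrArg Fin.val e; simp [Nat.mod_eq_of_lt (show 2 < m + 3 by omega)] at this)

theorem jordanSwap_eigen (m : ℕ) {c : F} {v : Fin (m + 3) → F} (hv : jordanSwap F m *ᵥ v = c • v)
    (hv0 : v ≠ 0) : ∀ i : Fin (m + 3), (i : ℕ) ≠ 0 → v i = 0 := by
  intro i hi
  set σ := Equiv.swap (1 : Fin (m + 3)) 2 with hσ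
  rw [jordanSwap, Matrix.submatrix_mulVec_equiv, Equiv.symm_swap, ← hσ] at hv
  have h1 : jordan F (m + 3) *ᵥ (v ∘ σ) = c • (v ∘ σ) := by
    ext j
    have := congrFun hv (σ j)
    simpa [hσ] using this
  have h2 : v ∘ σ ≠ 0 := fun e => hv0 (by
    ext j; simpa [hσ] using congrFun e (σ j))
  have h3 := jordan_eigen (m + 3) h1 h2 (σ i) fun e => hi (by
    have e' : σ i = σ 0 := Fin.ext (by rw [hσ, swap_zero]; exact e)
    rw [σ.injective e']; rfl)
  simpa [hσ] using h3

theorem trace_mul (m : ℕ) : (jordan F (m + 3) * jordanSwap F m).trace = (m + 3 : ℕ) + 1 := by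
  classical
  set σ := Equiv.swap (1 : Fin (m + 3)) 2 with hσ
  set N : Matrix (Fin (m + 3)) (Fin (m + 3)) F := Matrix.of fun i j => if (j : ℕ) = i + 1 then 1 else 0
    with hN
  have hJ : jordan F (m + 3) = 1 + N := by
    ext i j
    by_cases h : i = j
    · subst h; simp [jordan, hN]
    · simp [jordan, hN, h, Matrix.one_apply_ne h]
  have hV : jordanSwap F m = 1 + N.submatrix σ σ := by
    rw [jordanSwap, hJ, Matrix.submatrix_add, Pi.add_apply, Pi.add_apply, Matrix.submatrix_one_equiv]
  have hNN : (N * N.submatrix σ σ).trace = 1 := by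
    simp only [Matrix.trace, Matrix.diag, Matrix.mul_apply, Matrix.submatrix_apply]
    rw [Finset.sum_eq_single (1 : Fin (m + 3)), Finset.sum_eq_single (2 : Fin (m + 3))]
    · simp [hN, hσ, val_two_fin]
    · intro j _ hj
      have : ¬ (j : ℕ) = 1 + 1 := fun e => hj (Fin.ext (by simpa [Nat.mod_eq_of_lt (show 2 < m + 3 by omega)] using e))
      simp [hN, this]
    · exact fun h => absurd (Finset.mem_univ _) h
    · intro i _ hi
      refine Finset.sum_eq_zero fun j _ => ?_
      by_cases h1 : (j : ℕ) = i + 1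
      · have h2 : ¬ (σ i : ℕ) = σ j + 1 := by
          have v1 : ((1 : Fin (m + 3)) : ℕ) = 1 := by simp
          have v2 : ((2 : Fin (m + 3)) : ℕ) = 2 := val_two_fin m
          have hi' : (i : ℕ) ≠ 1 := fun e => hi (Fin.ext (e.trans v1.symm))
          rw [hσ, Equiv.swap_apply_def, Equiv.swap_apply_def]
          simp only [Fin.ext_iff, v1, v2]
          split_ifs <;> omega
        simp [hN, h2]
      · simp [hN, h1]
    · exact fun h => absurd (Finset.mem_univ _) h
  have hNt : N.trace = 0 := Finset.sum_eq_zero fun i _ => by simp [hN]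
  have hNs : (N.submatrix σ σ).trace = 0 := Finset.sum_eq_zero fun i _ => by simp [hN]
  rw [hV, hJ, mul_add, add_mul, add_mul, one_mul, mul_one, one_mul, Matrix.trace_add,
    Matrix.trace_add, Matrix.trace_add, hNN, hNt, hNs, Matrix.trace_one, Fintype.card_fin]
  ring

end CfsgLib.FgsP.UnipotentPair
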