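import Mathlib
import Cfsg.Agent.Lib.FgsP.NilpotentCoverAction
import Cfsg.Agent.Lib.FgsP.UnipotentPair
import Cfsg.Agent.Lib.Classical.P1

/-!
# Groups between `PSL` and `PGL` have no nilpotent minimal cover

Point stabilisers, together with the members without fixed points, are fewer than the members of a
nilpotent cover: in dimension at least three two regular unipotent elements with the same fixed point
generate no nilpotent group, in dimension two a split torus supplies one more member.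
-/

set_option autoImplicit false
set_option linter.style.haveILetI false

namespace CfsgLib.FgsP.NilpotentCoverPGL

open Matrix
open scoped LinearAlgebra.Projectivization
open CfsgLib.FgsP.NilpotentCover CfsgLib.FgsP.NilpotentCoverAction CfsgLib.FgsP.UnipotentPair

variable {F : Type*} [Field F] {n : ℕ} {G : Subgroup (Matrix.ProjGenLinGroup (Fin n) F)}

/-- The image of a special linear matrix in `G`. -/
def elt (hG : ∀ s : Matrix.SpecialLinearGroup (Fin n) F, Matrix.SpecialLinearGroup.toPGL s ∈ G) :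
    Matrix.SpecialLinearGroup (Fin n) F →* G :=
  (Matrix.SpecialLinearGroup.toPGL).codRestrict G hG

variable (hG : ∀ s : Matrix.SpecialLinearGroup (Fin n) F, Matrix.SpecialLinearGroup.toPGL s ∈ G)

theorem elt_smul (s : Matrix.SpecialLinearGroup (Fin n) F) (x : ℙ F (Fin n → F)) :
    elt hG s • x = s • x := by
  induction x using Projectivization.ind with | _ v hv => rfl

include hG in
theorem exists_smul_eq (x y : ℙ F (Fin n → F)) : ∃ g : G, g • x = y := by
  haveI : MulAction.IsPretransitive (Matrix.SpecialLinearGroup (Fin n) F) (ℙ F (Fin n → F)) :=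
    inferInstance
  obtain ⟨s, hs⟩ := MulAction.exists_smul_eq (Matrix.SpecialLinearGroup (Fin n) F) x y
  exact ⟨elt hG s, by rw [elt_smul, hs]⟩

theorem nontrivial_points [NeZero n] (hn : 2 ≤ n) : Nontrivial (ℙ F (Fin n → F)) := by
  refine ⟨Projectivization.mk F (Pi.single ⟨0, by omega⟩ 1) (by simp),
    Projectivization.mk F (Pi.single ⟨1, by omega⟩ 1) (by simp), fun h => ?_⟩
  obtain ⟨a, ha⟩ := (Projectivization.mk_eq_mk_iff' F _ _ _ _).1 h
  simpa using congrFun ha ⟨0, by omega⟩

include hG in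
theorem stabilizer_ne_top [NeZero n] (hn : 2 ≤ n) (x : ℙ F (Fin n → F)) :
    MulAction.stabilizer G x ≠ ⊤ := by
  intro h
  haveI := nontrivial_points (F := F) hn
  obtain ⟨y, hy⟩ := exists_ne x
  obtain ⟨g, hg⟩ := exists_smul_eq hG x y
  exact hy (hg.symm.trans (MulAction.mem_stabilizer_iff.1 (h ▸ Subgroup.mem_top g)))

theorem orderOf_elt (p : ℕ) [hp : Fact p.Prime] {s : Matrix.SpecialLinearGroup (Fin n) F} {k : ℕ}
    (hs : (s : Matrix (Fin n) (Fin n) F) ^ p ^ k = 1) : ∃ j, orderOf (elt hG s) = p ^ j := by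
  have h1 : s ^ p ^ k = 1 := Subtype.ext (by rw [Matrix.SpecialLinearGroup.coe_pow]; exact hs)
  obtain ⟨j, -, hj⟩ := (Nat.dvd_prime_pow hp.out).1
    (orderOf_dvd_of_pow_eq_one (x := elt hG s) (by rw [← map_pow, h1, map_one]))
  exact ⟨j, hj⟩

theorem not_dvd_card_points [Finite F] (p : ℕ) [hp : Fact p.Prime] [CharP F p] (hn : 1 ≤ n) :
    ¬ p ∣ Nat.card (ℙ F (Fin n → F)) := by
  intro h
  have h1 := Projectivization.card F (Fin n → F)
  rw [Nat.card_fun, Nat.card_fin] at h1
  haveI := Fintype.ofFinite F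
  obtain ⟨k, -, hk⟩ := FiniteField.card F p
  have hpq : p ∣ Nat.card F := by
    rw [Nat.card_eq_fintype_card, hk]; exact dvd_pow_self p k.ne_zero
  have h2 : p ∣ Nat.card F ^ n - 1 := h1 ▸ dvd_mul_of_dvd_left h _
  have h3 : p ∣ Nat.card F ^ n := dvd_pow hpq (by omega)
  have h4 : 1 ≤ Nat.card F ^ n := Nat.one_le_pow _ _ Nat.card_pos
  have h5 : p ∣ 1 := by
    have := Nat.dvd_sub h3 h2
    rwa [Nat.sub_sub_self h4] at this
  exact hp.out.one_lt.ne' (Nat.dvd_one.1 h5)

/-- The first coordinate point. -/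
noncomputable def base (F : Type*) [Field F] (n : ℕ) [NeZero n] : ℙ F (Fin n → F) :=
  Projectivization.mk F (Pi.single 0 1) (by simp)

theorem fixed_eq_base [NeZero n] {s : Matrix.SpecialLinearGroup (Fin n) F}
    (hs : ∀ (c : F) (v : Fin n → F), (s : Matrix (Fin n) (Fin n) F) *ᵥ v = c • v → v ≠ 0 →
      ∀ i : Fin n, (i : ℕ) ≠ 0 → v i = 0)
    {y : ℙ F (Fin n → F)} (hy : elt hG s • y = y) : y = base F n := by
  induction y using Projectivization.ind with | _ v hv =>
  rw [elt_smul, Projectivization.smul_mk, Projectivization.mk_eq_mk_iff'] at hy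
  obtain ⟨c, hc⟩ := hy
  have hc' : (s : Matrix (Fin n) (Fin n) F) *ᵥ v = c • v := hc.symm
  rw [base, Projectivization.mk_eq_mk_iff']
  refine ⟨v 0, ?_⟩
  ext i
  by_cases hi : i = 0
  · subst hi; simp
  · rw [Pi.smul_apply, Pi.single_eq_of_ne hi, smul_zero,
      hs c v hc' hv i fun e => hi (Fin.ext (e.trans (Fin.val_zero _).symm))]

/-- The members of a cover fixing no point catch all fixed-point-free elements. -/
theorem free_members {X : Type*} [MulAction G X] [Finite F] {𝓐 : Finset (Subgroup G)}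
    (h : IsNilMinCover 𝓐) [DecidablePred fun A : Subgroup G => ∃ x : X, ∀ a ∈ A, a • x = x] (g : G)
    (hg : ∀ x : X, g • x ≠ x) :
    ∃ A ∈ 𝓐.filter (fun A => ¬ ∃ x : X, ∀ a ∈ A, a • x = x), g ∈ A := by
  obtain ⟨A, hA, hgA⟩ := h.1.2 g
  exact ⟨A, Finset.mem_filter.2 ⟨hA, fun ⟨x, hx⟩ => hg x (hx g hgA)⟩, hgA⟩

theorem not_covered_three {m : ℕ} [Finite F] {G : Subgroup (Matrix.ProjGenLinGroup (Fin (m + 3)) F)}
    (hG : ∀ s : Matrix.SpecialLinearGroup (Fin (m + 3)) F, Matrix.SpecialLinearGroup.toPGL s ∈ G)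
    {𝓐 : Finset (Subgroup G)} (h : IsNilMinCover 𝓐) : False := by
  classical
  obtain ⟨p, hp⟩ := CharP.exists F
  haveI := Fact.mk (CharP.char_is_prime F p)
  haveI : Finite (Matrix.ProjGenLinGroup (Fin (m + 3)) F) :=
    Finite.of_surjective _ Matrix.ProjGenLinGroup.mk_surjective
  let sJ : Matrix.SpecialLinearGroup (Fin (m + 3)) F := ⟨jordan F (m + 3), det_jordan _⟩
  let sV : Matrix.SpecialLinearGroup (Fin (m + 3)) F := ⟨jordanSwap F m, det_jordanSwap _⟩
  let w : Bool → G := fun b => elt hG (if b then sV else sJ)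
  have hwp : ∀ b, ∃ j, orderOf (w b) = p ^ j := by
    rintro (_ | _)
    · exact orderOf_elt hG p (k := m + 3) (jordan_pow_char _ p)
    · exact orderOf_elt hG p (k := m + 3) (jordanSwap_pow m p)
  have hwfix : ∀ b y, w b • y = y → y = base F (m + 3) := by
    rintro (_ | _) y hy
    · exact fixed_eq_base hG (s := sJ) (fun c v => jordan_eigen _) hy
    · exact fixed_eq_base hG (s := sV) (fun c v => jordanSwap_eigen _) hy
  have hnp : ∀ A : Subgroup G, Group.IsNilpotent ↥A → w false ∈ A → w true ∈ A → False := by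
    intro A hA h1 h2
    obtain ⟨j, hj⟩ := orderOf_mul p hA h1 h2 (hwp false) (hwp true)
    have h3 : (w false * w true) ^ p ^ j = 1 := by rw [← hj]; exact pow_orderOf_eq_one _
    rw [show w false * w true = elt hG (sJ * sV) from (map_mul _ _ _).symm, ← map_pow] at h3
    have h4 : Matrix.ProjGenLinGroup.mk (Matrix.SpecialLinearGroup.toGL ((sJ * sV) ^ p ^ j)) = 1 :=
      congrArg Subtype.val h3
    rw [Matrix.ProjGenLinGroup.mk_eq_one, Matrix.GeneralLinearGroup.mem_center_iff_val_eq_scalar] at h4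
    obtain ⟨c, hc⟩ := h4
    set P := jordan F (m + 3) * jordanSwap F m with hP
    have hc' : P ^ p ^ j = Matrix.scalar (Fin (m + 3)) c := by
      have : ((Matrix.SpecialLinearGroup.toGL ((sJ * sV) ^ p ^ j) : GL (Fin (m + 3)) F) :
          Matrix (Fin (m + 3)) (Fin (m + 3)) F) = P ^ p ^ j := by simp [hP, sJ, sV]; rfl
      rw [← this, hc]
    have he : P *ᵥ Pi.single 0 1 = Pi.single 0 1 := by
      have e1 : ∀ i : Fin (m + 3), (jordanSwap F m) i 0 = if i = 0 then 1 else 0 := by
        intro i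
        rw [jordanSwap, Matrix.submatrix_apply, swap_zero]
        have : (Equiv.swap (1 : Fin (m + 3)) 2 i = 0) ↔ i = 0 :=
          ⟨fun e => (Equiv.swap (1 : Fin (m + 3)) 2).injective (e.trans (swap_zero m).symm),
            fun e => e ▸ swap_zero m⟩
        simp [jordan, this]
      have e2 : ∀ i : Fin (m + 3), (jordan F (m + 3)) i 0 = if i = 0 then 1 else 0 := by
        intro i; simp [jordan]
      rw [hP, ← Matrix.mulVec_mulVec, Matrix.mulVec_single_one]
      rw [show (jordanSwap F m).col 0 = Pi.single 0 1 from funext fun i => by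
        simp [e1, Pi.single_apply], Matrix.mulVec_single_one]
      exact funext fun i => by simp [e2, Pi.single_apply]
    have he' : ∀ k, (P ^ k) *ᵥ Pi.single 0 1 = (Pi.single 0 1 : Fin (m + 3) → F) := by
      intro k
      induction k with
      | zero => rw [pow_zero, Matrix.one_mulVec]
      | succ k ih => rw [pow_succ, ← Matrix.mulVec_mulVec, he, ih]
    have hc1 : c = 1 := by
      have h5 := congrFun (he' (p ^ j)) 0
      rw [hc'] at h5
      simpa [Matrix.scalar_apply, Matrix.mulVec_diagonal] using h5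
    haveI : Nonempty (Fin (m + 3)) := ⟨0⟩
    have hnil : IsNilpotent (P - 1) := ⟨p ^ j, by
      rw [sub_pow_char_pow_of_commute (x := P) (y := 1) (p := p) (n := j) (Commute.one_right _), one_pow, hc', hc1, map_one, sub_self]⟩
    have htr := (Matrix.isNilpotent_trace_of_isNilpotent hnil).eq_zero
    rw [Matrix.trace_sub, hP, trace_mul, Matrix.trace_one, Fintype.card_fin] at htr
    exact one_ne_zero (add_left_cancel (a := ((m + 3 : ℕ) : F)) (by
      rw [add_zero]; exact sub_eq_zero.1 htr))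
  have hX := not_dvd_card_points (F := F) (n := m + 3) p (by omega)
  choose g hg using fun x => exists_smul_eq hG (base F (m + 3)) x
  choose M hMA hM using fun bx : Bool × ℙ F (Fin (m + 3) → F) =>
    h.1.2 (g bx.2 * w bx.1 * (g bx.2)⁻¹)
  have hfixc : ∀ b x y, (g x * w b * (g x)⁻¹) • y = y → y = x := by
    intro b x y hy
    rw [mul_smul, mul_smul, smul_eq_iff_eq_inv_smul (g x)] at hy
    exact (inv_smul_eq_iff.1 (hwfix b _ hy)).trans (hg x)
  have hMfix : ∀ bx, ∀ a ∈ M bx, a • bx.2 = bx.2 := fun bx =>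
    fixes_point p hX (h.2.2 _ (hMA bx)) (hM bx) (by
      obtain ⟨j, hj⟩ := hwp bx.1
      exact ⟨j, by rw [← hj]; exact ((SemiconjBy.conj_mk (g bx.2) (w bx.1)).orderOf_eq).symm⟩)
      (hfixc bx.1 bx.2)
  have hinj : Function.Injective M := by
    rintro ⟨b, x⟩ ⟨b', x'⟩ he
    have hx : x = x' := (hfixc b x x' (hMfix (b', x') _ (he ▸ hM (b, x)))).symm
    subst hx
    by_contra hne
    have hbb : b ≠ b' := fun e => hne (by rw [e])
    have h1 := hM (b, x)
    have h2 : g x * w b' * (g x)⁻¹ ∈ M (b, x) := he ▸ hM (b', x)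
    set A' := (M (b, x)).map (MulAut.conj (g x)⁻¹).toMonoidHom with hA'
    have hA'n : Group.IsNilpotent ↥A' := by
      haveI := h.2.2 _ (hMA (b, x))
      exact Group.nilpotent_of_mulEquiv ((M (b, x)).equivMapOfInjective _ (MulAut.conj (g x)⁻¹).injective)
    have m1 : w b ∈ A' := ⟨_, h1, by simp [mul_assoc]⟩
    have m2 : w b' ∈ A' := ⟨_, h2, by simp [mul_assoc]⟩
    cases b <;> cases b' <;> first
      | exact hbb rfl
      | exact hnp A' hA'n m1 m2
      | exact hnp A' hA'n m2 m1
  haveI := Fintype.ofFinite (ℙ F (Fin (m + 3) → F))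
  haveI : Nonempty (ℙ F (Fin (m + 3) → F)) := ⟨base F (m + 3)⟩
  refine false_of_card (X := ℙ F (Fin (m + 3) → F)) h (stabilizer_ne_top hG (by omega))
    (S := Finset.univ.image M) (R := 𝓐.filter (fun A => ¬ ∃ x : ℙ F (Fin (m + 3) → F), ∀ a ∈ A, a • x = x))
    (fun A hA => ?_) (Finset.filter_subset _ _) ?_ (free_members h) ?_
  · obtain ⟨bx, -, rfl⟩ := Finset.mem_image.1 hA
    exact hMA bx
  · rw [Finset.disjoint_left]
    intro A hA hA2
    obtain ⟨bx, -, rfl⟩ := Finset.mem_image.1 hA
    exact (Finset.mem_filter.1 hA2).2 ⟨bx.2, hMfix bx⟩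
  · rw [Finset.card_image_of_injective _ hinj, Finset.card_univ, Fintype.card_prod, Fintype.card_bool,
      Nat.card_eq_fintype_card]
    have := Fintype.card_pos (α := ℙ F (Fin (m + 3) → F))
    omega

end CfsgLib.FgsP.NilpotentCoverPGL
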