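import Mathlib
import Cfsg.Agent.Lib.FgsP.NilpotentCoverPGL

/-!
# Groups between `PSL₂` and `PGL₂` have no nilpotent minimal cover

For an odd prime `r` dividing `q + 1` the members meeting a non-split torus are semiregular; when
`q + 1` is a power of `2` an odd prime divides `q - 1` and a split element forces two fixed points.
-/

set_option autoImplicit false
set_option linter.style.haveILetI false

namespace CfsgLib.FgsP.NilpotentCoverPGL2

open Matrix
open scoped LinearAlgebra.Projectivization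
open CfsgLib.FgsP.NilpotentCover CfsgLib.FgsP.NilpotentCoverAction CfsgLib.FgsP.UnipotentPair
open CfsgLib.FgsP.NilpotentCoverPGL

variable {F : Type*} [Field F]

/-- The diagonal torus of `SL₂`. -/
def diagHom (F : Type*) [Field F] : Fˣ →* Matrix.SpecialLinearGroup (Fin 2) F where
  toFun a := ⟨!![(a : F), 0; 0, (a : F)⁻¹], by simp [Matrix.det_fin_two]⟩
  map_one' := Subtype.ext (by ext i j; fin_cases i <;> fin_cases j <;> simp)
  map_mul' a b := Subtype.ext (by
    show !![((a * b : Fˣ) : F), 0; 0, ((a * b : Fˣ) : F)⁻¹] =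
      !![(a : F), 0; 0, (a : F)⁻¹] * !![(b : F), 0; 0, (b : F)⁻¹]
    ext i j
    fin_cases i <;> fin_cases j <;> simp [Matrix.mul_apply, Fin.sum_univ_two, mul_comm])

theorem coe_diagHom (a : Fˣ) :
    (diagHom F a : Matrix (Fin 2) (Fin 2) F) = !![(a : F), 0; 0, (a : F)⁻¹] := rfl

/-- The second coordinate point. -/
noncomputable def other (F : Type*) [Field F] : ℙ F (Fin 2 → F) :=
  Projectivization.mk F (Pi.single 1 1) (by simp)

theorem base_ne_other : base F 2 ≠ other F := fun h => by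
  obtain ⟨a, ha⟩ := (Projectivization.mk_eq_mk_iff' F _ _ _ _).1 h
  simpa using congrFun ha 0

variable {G : Subgroup (Matrix.ProjGenLinGroup (Fin 2) F)}
  (hG : ∀ s : Matrix.SpecialLinearGroup (Fin 2) F, Matrix.SpecialLinearGroup.toPGL s ∈ G)

theorem sharp (g : G) (a b c : ℙ F (Fin 2 → F)) (hab : a ≠ b) (hac : a ≠ c) (hbc : b ≠ c)
    (ha : g • a = a) (hb : g • b = b) (hc : g • c = c) : g = 1 :=
  Subtype.ext (CfsgLib.Classical.pgl_sharp hab hac hbc ha hb hc)

theorem diag_smul_base (a : Fˣ) : elt hG (diagHom F a) • base F 2 = base F 2 := by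
  rw [elt_smul, base, Projectivization.smul_mk, Projectivization.mk_eq_mk_iff']
  refine ⟨a, ?_⟩
  show _ = (diagHom F a : Matrix (Fin 2) (Fin 2) F) *ᵥ _
  ext i; fin_cases i <;> simp [coe_diagHom, Matrix.mulVec, dotProduct]

theorem diag_smul_other (a : Fˣ) : elt hG (diagHom F a) • other F = other F := by
  rw [elt_smul, other, Projectivization.smul_mk, Projectivization.mk_eq_mk_iff']
  refine ⟨(a : F)⁻¹, ?_⟩
  show _ = (diagHom F a : Matrix (Fin 2) (Fin 2) F) *ᵥ _
  ext i; fin_cases i <;> simp [coe_diagHom, Matrix.mulVec, dotProduct]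

theorem diag_ne_one {a : Fˣ} (ha : a ^ 2 ≠ 1) : elt hG (diagHom F a) ≠ 1 := fun h => by
  have h4 : Matrix.ProjGenLinGroup.mk (Matrix.SpecialLinearGroup.toGL (diagHom F a)) = 1 :=
    congrArg Subtype.val h
  rw [Matrix.ProjGenLinGroup.mk_eq_one, Matrix.GeneralLinearGroup.mem_center_iff_val_eq_scalar] at h4
  obtain ⟨c, hc⟩ := h4
  have e0 := congrFun (congrFun hc 0) 0
  have e1 := congrFun (congrFun hc 1) 1
  simp [coe_diagHom] at e0 e1
  refine ha (Units.ext ?_)
  rw [Units.val_pow_eq_pow_val, Units.val_one, sq]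
  nth_rewrite 2 [← e0]
  rw [e1, mul_inv_cancel₀ a.ne_zero]

theorem diag_fixed {a : Fˣ} (ha : a ^ 2 ≠ 1) {y : ℙ F (Fin 2 → F)}
    (hy : elt hG (diagHom F a) • y = y) : y = base F 2 ∨ y = other F := by
  by_contra! h
  exact diag_ne_one hG ha (sharp _ y (base F 2) (other F) h.1 h.2 base_ne_other hy
    (diag_smul_base hG a) (diag_smul_other hG a))

theorem no_swap {a : Fˣ} {b : G} (hc : Commute b (elt hG (diagHom F a)))
    (h0 : b • base F 2 = other F) (h1 : b • other F = base F 2) : a ^ 4 = 1 := by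
  obtain ⟨β, hβ⟩ := Matrix.ProjGenLinGroup.mk_surjective (b : Matrix.ProjGenLinGroup (Fin 2) F)
  have h0' : Matrix.ProjGenLinGroup.mk β • base F 2 = other F := by rw [hβ]; exact h0
  have h1' : Matrix.ProjGenLinGroup.mk β • other F = base F 2 := by rw [hβ]; exact h1
  rw [base, other, CfsgLib.Classical.gl_smul_mk, Projectivization.mk_eq_mk_iff'] at h0' h1'
  obtain ⟨c, hc0⟩ := h0'
  obtain ⟨c', hc1⟩ := h1'
  have e00 : β.1 0 0 = 0 := by
    have := congrFun hc0 0
    simp [Matrix.mulVec, dotProduct] at this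
    exact this.symm
  have e11 : β.1 1 1 = 0 := by
    have := congrFun hc1 1
    simp [Matrix.mulVec, dotProduct] at this
    exact this.symm
  have e10 : β.1 1 0 ≠ 0 := fun e => β.det_ne_zero (by simp [Matrix.det_fin_two, e00, e])
  have e01 : β.1 0 1 ≠ 0 := fun e => β.det_ne_zero (by simp [Matrix.det_fin_two, e11, e])
  have h2 : Matrix.ProjGenLinGroup.mk (β * Matrix.SpecialLinearGroup.toGL (diagHom F a)) =
      Matrix.ProjGenLinGroup.mk (Matrix.SpecialLinearGroup.toGL (diagHom F a) * β) := by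
    rw [map_mul, map_mul, hβ]
    exact congrArg Subtype.val hc.eq
  obtain ⟨u, hu⟩ := Matrix.ProjGenLinGroup.mk_eq_mk_iff.1 h2
  have hu' := congrArg Units.val hu
  have f10 := congrFun (congrFun hu' 1) 0
  have f01 := congrFun (congrFun hu' 0) 1
  simp [coe_diagHom, Matrix.mul_apply, Fin.sum_univ_two, e00, e11] at f10 f01
  have k1 : (a : F) * u = (a : F)⁻¹ := mul_left_cancel₀ e10 (by linear_combination f10)
  have k2 : (a : F)⁻¹ * u = a := mul_left_cancel₀ e01 (by linear_combination f01)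
  have a0 : (a : F) ≠ 0 := a.ne_zero
  have k1' : (a : F) ^ 2 * u = 1 := by rw [sq, mul_assoc, k1, mul_inv_cancel₀ a0]
  have k2' : (u : F) = (a : F) ^ 2 := by
    have := congrArg ((a : F) * ·) k2
    simp only [← mul_assoc, mul_inv_cancel₀ a0, one_mul] at this
    rw [this, sq]
  refine Units.ext ?_
  rw [Units.val_pow_eq_pow_val, Units.val_one]
  rw [k2'] at k1'
  linear_combination k1'

variable [Finite F]

instance : Finite (Matrix.ProjGenLinGroup (Fin 2) F) :=
  Finite.of_surjective _ Matrix.ProjGenLinGroup.mk_surjective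

include hG in
/-- Members through the regular unipotent elements, one for each point. -/
theorem exists_unipotent_members {𝓐 : Finset (Subgroup G)} (h : IsNilMinCover 𝓐) :
    ∃ (p : ℕ) (_ : Fact p.Prime) (_ : CharP F p) (M : ℙ F (Fin 2 → F) → Subgroup G)
      (u : ℙ F (Fin 2 → F) → G), Function.Injective M ∧ ∀ x, M x ∈ 𝓐 ∧ u x ∈ M x ∧
        (∀ y, u x • y = y → y = x) ∧ (∃ j, orderOf (u x) = p ^ j) ∧ ∀ a ∈ M x, a • x = x := by
  obtain ⟨p, hp⟩ := CharP.exists F
  haveI := Fact.mk (CharP.char_is_prime F p)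
  let sJ : Matrix.SpecialLinearGroup (Fin 2) F := ⟨jordan F 2, det_jordan _⟩
  have hX := not_dvd_card_points (F := F) (n := 2) p (by omega)
  choose g hg using fun x => exists_smul_eq hG (base F 2) x
  obtain ⟨j, hj⟩ := orderOf_elt hG p (s := sJ) (k := 2) (jordan_pow_char _ p)
  let u := fun x => g x * elt hG sJ * (g x)⁻¹
  choose M hMA hM using fun x => h.1.2 (u x)
  have hfix : ∀ x y, u x • y = y → y = x := by
    intro x y hy
    rw [mul_smul, mul_smul, smul_eq_iff_eq_inv_smul (g x)] at hy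
    exact (inv_smul_eq_iff.1 (fixed_eq_base hG (s := sJ) (fun c v => jordan_eigen _) hy)).trans (hg x)
  have hord : ∀ x, ∃ j, orderOf (u x) = p ^ j := fun x =>
    ⟨j, by rw [← hj]; exact ((SemiconjBy.conj_mk (g x) (elt hG sJ)).orderOf_eq).symm⟩
  have hMfix : ∀ x, ∀ a ∈ M x, a • x = x := fun x =>
    fixes_point p hX (h.2.2 _ (hMA x)) (hM x) (hord x) (hfix x)
  refine ⟨p, inferInstance, hp, M, u, fun x x' he => ?_,
    fun x => ⟨hMA x, hM x, hfix x, hord x, hMfix x⟩⟩
  exact (hfix x x' (hMfix x' _ (he ▸ hM x))).symm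

include hG in
theorem false_of_split {𝓐 : Finset (Subgroup G)} (h : IsNilMinCover 𝓐) {r : ℕ} [hr : Fact r.Prime]
    (h3 : 3 ≤ r) (hdvd : r ∣ Nat.card F - 1) : False := by
  classical
  obtain ⟨p, _, _, M, u, hinj, hM⟩ := exists_unipotent_members hG h
  haveI := Fintype.ofFinite (ℙ F (Fin 2 → F))
  obtain ⟨α, hα⟩ := exists_prime_orderOf_dvd_card' (G := Fˣ) r (by rwa [Nat.card_units])
  have hα2 : α ^ 2 ≠ 1 := fun e => by
    have := Nat.le_of_dvd two_pos (hα ▸ orderOf_dvd_of_pow_eq_one e); omega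
  set d := elt hG (diagHom F α) with hd
  have hdr : orderOf d = r := orderOf_eq_prime (by rw [hd, ← map_pow, ← map_pow, ← hα, pow_orderOf_eq_one,
    map_one, map_one]) (diag_ne_one hG hα2)
  obtain ⟨A, hA, hdA⟩ := h.1.2 d
  obtain ⟨K, -, hK, hconj, hmem⟩ := exists_pPart r (h.2.2 A hA)
  have hdK : d ∈ K := hmem d hdA ⟨1, by rw [hdr, pow_one]⟩
  set Φ := MulAction.fixedPoints K (ℙ F (Fin 2 → F)) with hΦ
  have hsub : ∀ y ∈ Φ, y = base F 2 ∨ y = other F := fun y hy => diag_fixed hG hα2 (hy ⟨d, hdK⟩)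
  have hmod := hK.card_modEq_card_fixedPoints (ℙ F (Fin 2 → F))
  rw [CfsgLib.Classical.card_proj_line] at hmod
  have hboth : ∀ y : ℙ F (Fin 2 → F), y = base F 2 ∨ y = other F → y ∈ Φ := by
    by_contra! hne
    obtain ⟨y, hy, hyΦ⟩ := hne
    have hle : Nat.card Φ ≤ 1 := by
      rw [Finite.card_le_one_iff_subsingleton]
      refine ⟨fun a b => Subtype.ext ?_⟩
      have hane : (a : ℙ F (Fin 2 → F)) ≠ y := fun e => hyΦ (e ▸ a.2)
      have hbne : (b : ℙ F (Fin 2 → F)) ≠ y := fun e => hyΦ (e ▸ b.2)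
      rcases hy with rfl | rfl
      · exact ((hsub a a.2).resolve_left hane).trans ((hsub b b.2).resolve_left hbne).symm
      · exact ((hsub a a.2).resolve_right hane).trans ((hsub b b.2).resolve_right hbne).symm
    have h1 : 1 < Nat.card F := Finite.one_lt_card
    have e1 : (Nat.card F + 1) % r = 2 := by
      obtain ⟨t, ht⟩ := hdvd
      rw [show Nat.card F + 1 = 2 + r * t by omega, Nat.add_mul_mod_self_left, Nat.mod_eq_of_lt (by omega)]
    have e2 : Nat.card Φ % r = Nat.card Φ := Nat.mod_eq_of_lt (by omega)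
    have := hmod
    rw [Nat.ModEq, e1, e2] at this
    omega
  have hAfix : ∀ y : ℙ F (Fin 2 → F), y = base F 2 ∨ y = other F → ∀ a ∈ A, a • y = y := by
    intro y hy a ha
    have hmove : ∀ b ∈ A, ∀ z : ℙ F (Fin 2 → F), z = base F 2 ∨ z = other F →
        b • z = base F 2 ∨ b • z = other F := by
      intro b hb z hz
      refine diag_fixed hG hα2 ?_
      have h1 : (b⁻¹ * d * b) • z = z := hboth z hz ⟨_, hconj b hb d hdK⟩
      calc d • b • z = (b * (b⁻¹ * d * b)) • z := by rw [← mul_smul]; group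
        _ = b • z := by rw [mul_smul, h1]
    obtain ⟨i, m, hm, hio⟩ := Nat.exists_eq_pow_mul_and_not_dvd (orderOf_pos a).ne' r hr.out.ne_one
    refine MulAction.mem_stabilizer_iff.1 (mem_of_pow_mem_coprime
      ((hr.out.coprime_iff_not_dvd.2 hm).pow_left i) (MulAction.mem_stabilizer_iff.2 ?_)
      (MulAction.mem_stabilizer_iff.2 ?_))
    · set b := a ^ r ^ i with hb
      have hbm : b ^ m = 1 := by rw [hb, ← pow_mul, ← hio, pow_orderOf_eq_one]
      have hcd : Commute b d := CfsgLib.OddOrder.commute_of_isNilpotent (h.2.2 A hA) (pow_mem ha _) hdA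
        (Nat.Coprime.coprime_dvd_left (orderOf_dvd_of_pow_eq_one hbm) (by
          rw [hdr]; exact (hr.out.coprime_iff_not_dvd.2 hm).symm))
      have hb0 : b • base F 2 = base F 2 ∧ b • other F = other F := by
        rcases hmove b (pow_mem ha _) _ (Or.inl rfl) with e0 | e0 <;>
          rcases hmove b (pow_mem ha _) _ (Or.inr rfl) with e1 | e1
        · exact absurd (MulAction.injective b (e0.trans e1.symm)) base_ne_other
        · exact ⟨e0, e1⟩
        · have h4 := no_swap hG hcd e0 e1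
          have h4' : r ∣ 4 := hα ▸ orderOf_dvd_of_pow_eq_one h4
          have h2 := (Nat.prime_dvd_prime_iff_eq hr.out Nat.prime_two).1
            (hr.out.dvd_of_dvd_pow (show r ∣ 2 ^ 2 from h4'))
          omega
        · exact absurd (MulAction.injective b (e0.trans e1.symm)) base_ne_other
      rcases hy with rfl | rfl
      exacts [hb0.1, hb0.2]
    · exact hboth y hy ⟨a ^ m, hmem _ (pow_mem ha _) ((Nat.dvd_prime_pow hr.out).1
        (orderOf_dvd_of_pow_eq_one (by rw [← pow_mul, mul_comm, ← hio, pow_orderOf_eq_one]))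
        |>.imp fun j hj => hj.2)⟩
  have hnot : ∀ x, M x ≠ A := by
    intro x e
    have e0 := (hM x).2.2.1 _ (hAfix _ (Or.inl rfl) _ (e ▸ (hM x).2.1))
    have e1 := (hM x).2.2.1 _ (hAfix _ (Or.inr rfl) _ (e ▸ (hM x).2.1))
    exact base_ne_other (e0.trans e1.symm)
  haveI : NeZero 2 := ⟨two_ne_zero⟩
  refine false_of_card (X := ℙ F (Fin 2 → F)) h (stabilizer_ne_top hG le_rfl)
    (S := insert A (Finset.univ.image M))
    (R := 𝓐.filter (fun A => ¬ ∃ x : ℙ F (Fin 2 → F), ∀ a ∈ A, a • x = x))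
    (fun B hB => ?_) (Finset.filter_subset _ _) ?_ (free_members h) ?_
  · rcases Finset.mem_insert.1 hB with rfl | hB
    · exact hA
    · obtain ⟨x, -, rfl⟩ := Finset.mem_image.1 hB
      exact (hM x).1
  · rw [Finset.disjoint_left]
    intro B hB hB2
    rcases Finset.mem_insert.1 hB with rfl | hB
    · exact (Finset.mem_filter.1 hB2).2 ⟨_, hAfix _ (Or.inl rfl)⟩
    · obtain ⟨x, -, rfl⟩ := Finset.mem_image.1 hB
      exact (Finset.mem_filter.1 hB2).2 ⟨x, (hM x).2.2.2.2⟩
  · rw [Finset.card_insert_of_notMem, Finset.card_image_of_injective _ hinj, Finset.card_univ,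
      Nat.card_eq_fintype_card]
    · omega
    · exact fun hh => by obtain ⟨x, -, e⟩ := Finset.mem_image.1 hh; exact hnot x e

include hG in
/-- A fixed-point-free element commutes with an element of order `r ∣ q + 1`. -/
theorem exists_commute {r : ℕ} [hr : Fact r.Prime] (h3 : 3 ≤ r) (hdvd : r ∣ Nat.card F + 1) (g : G)
    (hg : ∀ x : ℙ F (Fin 2 → F), g • x ≠ x) : ∃ y : G, orderOf y = r ∧ Commute g y := by
  classical
  haveI := Fintype.ofFinite F
  obtain ⟨γ, hγ⟩ := Matrix.ProjGenLinGroup.mk_surjective (g : Matrix.ProjGenLinGroup (Fin 2) F)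
  let L : F × F → Matrix (Fin 2) (Fin 2) F := fun ab => ab.1 • (1 : Matrix (Fin 2) (Fin 2) F) + ab.2 • γ.1
  have hdet : ∀ ab : F × F, ab ≠ 0 → (L ab).det ≠ 0 := by
    rintro ⟨a, b⟩ hab hd
    by_cases hb : b = 0
    · subst hb
      simp [L, Matrix.det_fin_two] at hd
      exact hab (by simp [hd])
    · obtain ⟨v, hv, hLv⟩ := Matrix.exists_mulVec_eq_zero_iff.2 hd
      refine hg (Projectivization.mk F v hv) ?_
      show (g : Matrix.ProjGenLinGroup (Fin 2) F) • Projectivization.mk F v hv = _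
      rw [← hγ, CfsgLib.Classical.gl_smul_mk, Projectivization.mk_eq_mk_iff']
      refine ⟨-a / b, ?_⟩
      simp only [L, Matrix.add_mulVec, Matrix.smul_mulVec, Matrix.one_mulVec] at hLv
      ext i
      have := congrFun hLv i
      simp only [Pi.add_apply, Pi.smul_apply, smul_eq_mul, Pi.zero_apply] at this
      rw [Pi.smul_apply, smul_eq_mul]
      field_simp
      linear_combination -this
  have hLsub : ∀ ab ab', L ab - L ab' = L (ab - ab') := fun ab ab' => by
    simp [L, sub_smul]; abel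
  have hsq : γ.1 * γ.1 = L (-(γ.1.det), γ.1.trace) := by
    ext i j
    fin_cases i <;> fin_cases j <;>
      simp [L, Matrix.mul_apply, Fin.sum_univ_two, Matrix.det_fin_two, Matrix.trace_fin_two] <;> ring
  let S : Submonoid (GL (Fin 2) F) :=
    { carrier := {k | ∃ ab, L ab = k.1}
      one_mem' := ⟨(1, 0), by simp [L]⟩
      mul_mem' := by
        rintro k l ⟨ab, hab⟩ ⟨cd, hcd⟩
        refine ⟨(ab.1 * cd.1 - ab.2 * cd.2 * γ.1.det, ab.1 * cd.2 + ab.2 * cd.1 + ab.2 * cd.2 * γ.1.trace), ?_⟩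
        rw [Units.val_mul, ← hab, ← hcd]
        simp only [L, add_mul, mul_add, smul_mul_assoc, mul_smul_comm, one_mul, mul_one, hsq,
          smul_add, smul_smul]
        module }
  let T : Subgroup (GL (Fin 2) F) :=
    { S with
      inv_mem' := fun {k} hk => by
        have h1 : k⁻¹ = k ^ (orderOf k - 1) := inv_eq_of_mul_eq_one_right (by
          rw [← pow_succ', Nat.sub_add_cancel (orderOf_pos k), pow_orderOf_eq_one])
        rw [h1]; exact S.pow_mem hk _ }
  have hcard : Nat.card T = Nat.card F ^ 2 - 1 := by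
    let f : {ab : F × F // ab ≠ 0} → T := fun ab =>
      ⟨Matrix.GeneralLinearGroup.mkOfDetNeZero (L ab.1) (hdet _ ab.2), ab.1, rfl⟩
    have hf : Function.Bijective f := by
      refine ⟨fun ab ab' e => ?_, fun k => ?_⟩
      · have e' : L ab.1 = L ab'.1 := congrArg Units.val (congrArg Subtype.val e)
        by_contra hne
        refine hdet (ab.1 - ab'.1) (sub_ne_zero.2 fun e => hne (Subtype.ext e)) ?_
        rw [← hLsub, e', sub_self, Matrix.det_zero]
      · obtain ⟨ab, hab⟩ := k.2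
        have hne : ab ≠ 0 := fun e => k.1.det_ne_zero (by rw [← hab, e]; simp [L])
        exact ⟨⟨ab, hne⟩, Subtype.ext (Units.ext hab)⟩
    rw [← Nat.card_congr (Equiv.ofBijective f hf), Nat.card_eq_fintype_card, Fintype.card_subtype_compl,
      Fintype.card_subtype_eq, Fintype.card_prod, ← Nat.card_eq_fintype_card, sq]
  obtain ⟨ζ, hζ⟩ := exists_prime_orderOf_dvd_card' (G := T) r (by
    rw [hcard, show Nat.card F ^ 2 - 1 = (Nat.card F + 1) * (Nat.card F - 1) by
      rw [← Nat.sq_sub_sq, one_pow]]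
    exact dvd_mul_of_dvd_left hdvd _)
  have hcop : ∀ c : Fˣ, c ^ r = 1 → c = 1 := fun c hc => by
    rcases hr.out.eq_one_or_self_of_dvd _ (orderOf_dvd_of_pow_eq_one hc) with e | e
    · exact orderOf_eq_one_iff.1 e
    · have h1 : r ∣ Nat.card F - 1 := by rw [← Nat.card_units, ← e]; exact orderOf_dvd_natCard c
      have h2 : r ∣ Nat.card F + 1 - (Nat.card F - 1) := Nat.dvd_sub hdvd h1
      have h2' := Nat.le_of_dvd (by omega) h2
      have := Nat.card_pos (α := F)
      omega
  have hζr : (ζ : GL (Fin 2) F) ^ r = 1 := by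
    rw [← SubgroupClass.coe_pow, ← hζ, pow_orderOf_eq_one, OneMemClass.coe_one]
  have hd1 := hcop (Matrix.GeneralLinearGroup.det (ζ : GL (Fin 2) F)) (by rw [← map_pow, hζr, map_one])
  let s : Matrix.SpecialLinearGroup (Fin 2) F :=
    ⟨((ζ : GL (Fin 2) F) : Matrix (Fin 2) (Fin 2) F), congrArg Units.val hd1⟩
  have hs : Matrix.SpecialLinearGroup.toGL s = (ζ : GL (Fin 2) F) := Units.ext rfl
  refine ⟨elt hG s, orderOf_eq_prime ?_ ?_, Subtype.ext ?_⟩
  · refine Subtype.ext ?_
    show Matrix.ProjGenLinGroup.mk (Matrix.SpecialLinearGroup.toGL s) ^ r = 1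
    rw [hs, ← map_pow, hζr, map_one]
  · intro e
    have e' : Matrix.ProjGenLinGroup.mk (Matrix.SpecialLinearGroup.toGL s) = 1 := congrArg Subtype.val e
    rw [hs, Matrix.ProjGenLinGroup.mk_eq_one, Matrix.GeneralLinearGroup.center_eq_range_scalar] at e'
    obtain ⟨c, hc⟩ := e'
    have hc1 : c ^ r = 1 := by
      have h1 : Matrix.GeneralLinearGroup.scalar (Fin 2) (c ^ r) = 1 := by rw [map_pow, hc, hζr]
      have h2 : Matrix.scalar (Fin 2) ((c ^ r : Fˣ) : F) = 1 := congrArg Units.val h1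
      have := congrFun (congrFun h2 0) 0
      exact Units.ext (by simpa only [Matrix.scalar_apply, Matrix.diagonal_apply_eq, Matrix.one_apply_eq, Units.val_one] using this)
    rw [hcop c hc1, map_one] at hc
    have : orderOf ζ = 1 := orderOf_eq_one_iff.2 (Subtype.ext hc.symm)
    omega
  · show (g : Matrix.ProjGenLinGroup (Fin 2) F) * Matrix.ProjGenLinGroup.mk _ =
      Matrix.ProjGenLinGroup.mk _ * (g : Matrix.ProjGenLinGroup (Fin 2) F)
    rw [hs, ← hγ, ← map_mul, ← map_mul]
    refine congrArg _ (Units.ext ?_)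
    obtain ⟨ab, hab⟩ := ζ.2
    rw [Units.val_mul, Units.val_mul, ← hab]
    simp [L, mul_add, add_mul]

include hG in
theorem false_of_nonsplit {𝓐 : Finset (Subgroup G)} (h : IsNilMinCover 𝓐) (hq : 4 ≤ Nat.card F)
    {r : ℕ} [hr : Fact r.Prime] (h3 : 3 ≤ r) (hdvd : r ∣ Nat.card F + 1) : False := by
  classical
  obtain ⟨p, hp, _, M, u, hinj, hM⟩ := exists_unipotent_members hG h
  haveI := Fintype.ofFinite (ℙ F (Fin 2 → F))
  have hX : r ∣ Nat.card (ℙ F (Fin 2 → F)) := by rwa [CfsgLib.Classical.card_proj_line]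
  obtain ⟨α, hα⟩ := IsCyclic.exists_ofOrder_eq_natCard (α := Fˣ)
  rw [Nat.card_units] at hα
  have hα2 : α ^ 2 ≠ 1 := fun e => by
    have := Nat.le_of_dvd two_pos (hα ▸ orderOf_dvd_of_pow_eq_one e); omega
  set d := elt hG (diagHom F α) with hd
  obtain ⟨A, hA, hdA⟩ := h.1.2 d
  have hdo : orderOf d ∣ Nat.card F - 1 := hα ▸ orderOf_dvd_of_pow_eq_one (by
    rw [hd, ← map_pow, ← map_pow, pow_orderOf_eq_one, map_one, map_one])
  have hnot : ∀ x, M x ≠ A := by
    intro x e
    have hx := (hM x).2.2.2.2 d (e ▸ hdA)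
    obtain ⟨j, hj⟩ := (hM x).2.2.2.1
    have hcp : Nat.Coprime p (Nat.card F - 1) := hp.out.coprime_iff_not_dvd.2 fun hd' => by
      haveI := Fintype.ofFinite F
      obtain ⟨k, -, hk⟩ := FiniteField.card F p
      have hpq : p ∣ Nat.card F := by
        rw [Nat.card_eq_fintype_card, hk]; exact dvd_pow_self p k.ne_zero
      have h1 := Nat.dvd_sub hpq hd'
      rw [Nat.sub_sub_self (by omega)] at h1
      exact hp.out.one_lt.ne' (Nat.dvd_one.1 h1)
    have hc : Commute (u x) d := CfsgLib.OddOrder.commute_of_isNilpotent (h.2.2 A hA) (e ▸ (hM x).2.1) hdA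
      (Nat.Coprime.coprime_dvd_right hdo (by rw [hj]; exact hcp.pow_left j))
    have key : ∀ z, d • z = z → z ≠ x → False := by
      intro z hz hzx
      have h1 : d • u x • z = u x • z := by rw [← mul_smul, ← hc.eq, mul_smul, hz]
      have h2 : u x • z ≠ x := fun e' => hzx (MulAction.injective (u x) (e'.trans (by
        have : u x • x = x := (hM x).2.2.2.2 _ (hM x).2.1
        exact this.symm)))
      refine hzx ((hM x).2.2.1 z ?_)
      rcases diag_fixed hG hα2 h1 with a | a <;> rcases diag_fixed hG hα2 hz with b | b <;>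
        rcases diag_fixed hG hα2 hx with c | c <;>
        first
        | exact a.trans b.symm
        | exact absurd (b.trans c.symm) hzx
        | exact absurd (a.trans c.symm) h2
    rcases diag_fixed hG hα2 hx with c | c
    · exact key _ (diag_smul_other hG α) (c ▸ base_ne_other.symm)
    · exact key _ (diag_smul_base hG α) (c ▸ base_ne_other)
  haveI : NeZero 2 := ⟨two_ne_zero⟩
  refine false_of_card (X := ℙ F (Fin 2 → F)) h (stabilizer_ne_top hG le_rfl)
    (S := insert A (Finset.univ.image M)) (R := 𝓐.filter (fun B => ∃ y ∈ B, orderOf y = r))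
    (fun B hB => ?_) (Finset.filter_subset _ _) ?_ (fun g hg => ?_) ?_
  · rcases Finset.mem_insert.1 hB with rfl | hB
    · exact hA
    · obtain ⟨x, -, rfl⟩ := Finset.mem_image.1 hB
      exact (hM x).1
  · rw [Finset.disjoint_left]
    intro B hB hB2
    obtain ⟨hBA, y, hy, hyr⟩ := Finset.mem_filter.1 hB2
    rcases Finset.mem_insert.1 hB with rfl | hB
    · exact diag_ne_one hG hα2
        (semiregular h3 hX sharp (h.2.2 _ hBA) hy hyr hdA (diag_smul_base hG α))
    · obtain ⟨x, -, rfl⟩ := Finset.mem_image.1 hB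
      have hu := semiregular h3 hX sharp (h.2.2 _ hBA) hy hyr (hM x).2.1 ((hM x).2.2.2.2 _ (hM x).2.1)
      exact base_ne_other (((hM x).2.2.1 _ (by rw [hu, one_smul])).trans
        ((hM x).2.2.1 _ (by rw [hu, one_smul])).symm)
  · by_cases hrg : r ∣ orderOf g
    · obtain ⟨B, hB, hgB⟩ := h.1.2 g
      exact ⟨B, Finset.mem_filter.2 ⟨hB, g ^ (orderOf g / r), pow_mem hgB _,
        orderOf_pow_orderOf_div (orderOf_pos g).ne' hrg⟩, hgB⟩
    · obtain ⟨y, hy, hc⟩ := exists_commute hG h3 hdvd g hg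
      obtain ⟨B, hB, hzB⟩ := h.1.2 (g * y)
      have hcop : Nat.Coprime r (orderOf g) := hr.out.coprime_iff_not_dvd.2 hrg
      have hyB : y ∈ B := mem_of_pow_mem_coprime hcop
        (by rw [← hy, pow_orderOf_eq_one]; exact one_mem _)
        (by
          have h1 := pow_mem hzB (orderOf g)
          rwa [hc.mul_pow, pow_orderOf_eq_one, one_mul] at h1)
      exact ⟨B, Finset.mem_filter.2 ⟨hB, y, hyB, hy⟩, (mul_mem_cancel_right hyB).1 hzB⟩
  · rw [Finset.card_insert_of_notMem, Finset.card_image_of_injective _ hinj, Finset.card_univ,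
      Nat.card_eq_fintype_card]
    · omega
    · exact fun hh => by obtain ⟨x, -, e⟩ := Finset.mem_image.1 hh; exact hnot x e

include hG in
theorem not_covered_two {𝓐 : Finset (Subgroup G)} (h : IsNilMinCover 𝓐) (hq : 4 ≤ Nat.card F) :
    False := by
  rcases (Nat.card F + 1).eq_two_pow_or_exists_odd_prime_and_dvd with ⟨k, hk⟩ | ⟨r, hr, hd, ho⟩
  · rcases k with _ | _ | k
    · omega
    · omega
    rcases (2 ^ (k + 1) - 1).eq_two_pow_or_exists_odd_prime_and_dvd with ⟨j, hj⟩ | ⟨r, hr, hd, ho⟩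
    · exfalso
      rcases j with _ | j
      · have : 2 ^ (k + 1) = 2 := by
          have := Nat.one_le_two_pow (n := k + 1); simp at hj; omega
        have : k = 0 := by simpa using Nat.pow_right_injective le_rfl (this.trans (pow_one 2).symm)
        subst this; omega
      · have e1 : 2 ^ (k + 1) = 2 * 2 ^ k := by ring
        have e2 : 2 ^ (j + 1) = 2 * 2 ^ j := by ring
        have := Nat.one_le_two_pow (n := k)
        omega
    · haveI := Fact.mk hr
      have := hr.two_le
      obtain ⟨t, ht⟩ := ho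
      refine false_of_split hG h (r := r) (by omega) (dvd_trans hd ⟨2, ?_⟩)
      have e1 : 2 ^ (k + 1 + 1) = 2 * 2 ^ (k + 1) := by ring
      have := Nat.one_le_two_pow (n := k + 1)
      omega
  · haveI := Fact.mk hr
    have := hr.two_le
    obtain ⟨t, ht⟩ := ho
    exact false_of_nonsplit hG h hq (r := r) (by omega) hd

end CfsgLib.FgsP.NilpotentCoverPGL2
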