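import Mathlib
import Cfsg.Agent.Lib.FgsP.NilpotentCover

/-!
# Symmetric and alternating groups have no nilpotent minimal cover

For `n ≥ 6` a prime `r` with `n / 2 < r < n` gives a Sylow subgroup of order `r` whose normaliser is
not maximal.  The groups `S₄`, `A₅`, `S₅` have too many elements that pairwise lie in no common
nilpotent subgroup.
-/

set_option autoImplicit false
set_option linter.style.haveILetI false

namespace CfsgLib.FgsP.NilpotentCoverPerm

open Subgroup Equiv
open CfsgLib.FgsP.NilpotentCover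

variable {n : ℕ} {G : Type*} [Group G] [Finite G]

theorem center_eq_bot (hn : 4 ≤ n) (ι : G →* Perm (Fin n)) (hinj : Function.Injective ι)
    (himg : ∀ g : Perm (Fin n), Perm.sign g = 1 → ∃ x, ι x = g) : center G = ⊥ := by
  classical
  rw [eq_bot_iff]
  intro z hz
  rw [mem_bot]
  by_contra h1
  obtain ⟨a, ha⟩ : ∃ a, ι z a ≠ a := by
    by_contra! h
    exact h1 (hinj (by rw [map_one]; exact Equiv.ext h))
  obtain ⟨b, -, hb⟩ := Finset.exists_mem_notMem_of_card_lt_card
    (s := ({a, ι z a} : Finset (Fin n))) (t := Finset.univ)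
    (by rw [Finset.card_univ, Fintype.card_fin]; exact lt_of_le_of_lt Finset.card_le_two (by omega))
  obtain ⟨d, -, hd⟩ := Finset.exists_mem_notMem_of_card_lt_card
    (s := ({a, ι z a, b} : Finset (Fin n))) (t := Finset.univ)
    (by rw [Finset.card_univ, Fintype.card_fin]; exact lt_of_le_of_lt Finset.card_le_three (by omega))
  simp only [Finset.mem_insert, Finset.mem_singleton, not_or] at hb hd
  set σ := Equiv.swap a b * Equiv.swap b d with hσdef
  obtain ⟨x, hx⟩ := himg σ (by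
    rw [hσdef, map_mul, Perm.sign_swap (Ne.symm hb.1), Perm.sign_swap (Ne.symm hd.2.2)]; rfl)
  have hcomm : ι x (ι z a) = ι z (ι x a) := by
    rw [← Perm.mul_apply, ← Perm.mul_apply, ← map_mul, ← map_mul, Subgroup.mem_center_iff.1 hz x]
  have h2 : σ (ι z a) = ι z a := by
    rw [hσdef, Perm.mul_apply, swap_apply_of_ne_of_ne (Ne.symm hb.2) (Ne.symm hd.2.1),
      swap_apply_of_ne_of_ne ha (Ne.symm hb.2)]
  have h3 : σ a = b := by
    rw [hσdef, Perm.mul_apply, swap_apply_of_ne_of_ne (Ne.symm hb.1) (Ne.symm hd.1), swap_apply_left]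
  rw [hx, h2, h3] at hcomm
  exact hb.1 ((ι z).injective hcomm).symm

theorem not_sq_dvd_factorial {r : ℕ} (hr : r.Prime) : ∀ m, m < 2 * r → ¬ r ^ 2 ∣ m.factorial := by
  intro m
  induction m with
  | zero =>
    intro _ h
    exact hr.ne_one (Nat.dvd_one.1 ((dvd_pow_self r two_ne_zero).trans h))
  | succ m ih =>
    intro hm h
    rw [Nat.factorial_succ] at h
    by_cases hd : r ∣ m + 1
    · obtain ⟨t, ht⟩ := hd
      have ht1 : t = 1 := by
        rcases t with _ | _ | t
        · simp at ht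
        · rfl
        · exfalso
          have : r * 2 ≤ r * (t + 1 + 1) := Nat.mul_le_mul_left r (by omega)
          omega
      rw [ht, ht1, mul_one, pow_two] at h
      have h2 := hr.dvd_factorial.1 (Nat.dvd_of_mul_dvd_mul_left hr.pos h)
      rw [ht1, mul_one] at ht
      omega
    · exact ih (by omega)
        ((Nat.Coprime.pow_left 2 ((hr.coprime_iff_not_dvd).2 hd)).dvd_of_dvd_mul_left h)

/-- The subgroup of permutations preserving the set of points below `r`. -/
def belowStab (n r : ℕ) : Subgroup (Perm (Fin n)) where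
  carrier := {g | ∀ i : Fin n, ((g i : ℕ) < r ↔ (i : ℕ) < r)}
  one_mem' := fun i => Iff.rfl
  mul_mem' := fun {a b} ha hb i => (ha (b i)).trans (hb i)
  inv_mem' := fun {a} ha i => by
    have h := ha (a⁻¹ i)
    rw [show a (a⁻¹ i) = i from a.apply_symm_apply i] at h
    exact h.symm

theorem zpow_apply_of_fixed {α : Type*} {c : Perm α} {x : α} (h : c x = x) (t : ℤ) :
    (c ^ t) x = x := by
  exact Function.IsFixedPt.perm_zpow h t

theorem large (hn : 6 ≤ n) (ι : G →* Perm (Fin n)) (hinj : Function.Injective ι)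
    (himg : ∀ g : Perm (Fin n), Perm.sign g = 1 → ∃ x, ι x = g) :
    ¬ ∃ 𝓐 : Finset (Subgroup G), IsNilMinCover 𝓐 := by
  classical
  rintro ⟨𝓐, h⟩
  obtain ⟨r, hr, hlt, hle⟩ := Nat.exists_prime_lt_and_le_two_mul (n / 2) (by omega)
  haveI : Fact r.Prime := ⟨hr⟩
  have hrn : r < n := by
    rcases hr.eq_two_or_odd with h2 | h2 <;> omega
  have h2r : n < 2 * r := by omega
  have hr4 : r ≠ 4 := fun h4 => absurd (h4 ▸ hr) (by norm_num)
  have hr5 : 5 ≤ r := by
    have : 3 ≤ r := by omega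
    by_contra h5
    obtain rfl : r = 3 := by omega
    omega
  obtain ⟨k, rfl⟩ : ∃ k, r = k + 5 := ⟨r - 5, by omega⟩
  let e : Fin (k + 5) ↪ Fin n := Fin.castLEEmb hrn.le
  let vh := Perm.viaEmbeddingHom e
  let c₀ : Perm (Fin (k + 5)) := finRotate (k + 5)
  have hc₀1 : c₀ ≠ 1 := fun h1 => by
    have := Equiv.congr_fun h1 0
    simp [c₀] at this
  have hc₀r : c₀ ^ (k + 5) = 1 := by
    have h1 := Perm.IsCycle.orderOf (isCycle_finRotate (n := k + 3))
    rw [support_finRotate, Finset.card_univ, Fintype.card_fin] at h1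
    have h2 := pow_orderOf_eq_one c₀
    rwa [h1] at h2
  have hc0ord : orderOf (vh c₀) = k + 5 := by
    rw [orderOf_injective vh (Perm.viaEmbeddingHom_injective e), orderOf_eq_prime hc₀r hc₀1]
  obtain ⟨c, hc⟩ := himg (vh c₀) (by
    have h1 : Perm.sign (vh c₀) ^ (k + 5) = 1 := by rw [← map_pow, ← map_pow, hc₀r, map_one, map_one]
    rcases Int.units_eq_one_or (Perm.sign (vh c₀)) with h2 | h2
    · exact h2
    · exfalso
      rw [h2, (hr.odd_of_ne_two (by omega)).neg_one_pow] at h1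
      exact absurd h1 (by decide))
  have hcord : orderOf c = k + 5 := by rw [← orderOf_injective ι hinj, hc, hc0ord]
  have hcard : Nat.card G ∣ n.factorial := by
    have := Subgroup.card_dvd_of_injective ι hinj
    rwa [Nat.card_eq_fintype_card (α := Perm (Fin n)), Fintype.card_perm, Fintype.card_fin] at this
  obtain ⟨P, hP⟩ := (IsPGroup.of_card (n := 1)
    (show Nat.card (zpowers c) = (k + 5) ^ 1 by rw [Nat.card_zpowers, hcord, pow_one])).exists_le_sylow
  have hPeq : (P : Subgroup G) = zpowers c := by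
    obtain ⟨j, hj⟩ := IsPGroup.iff_card.1 P.isPGroup'
    refine (eq_of_le_of_card_ge hP ?_).symm
    rw [Nat.card_zpowers, hcord, hj]
    have hj2 : j < 2 := by
      by_contra hj2
      exact not_sq_dvd_factorial hr n h2r (((pow_dvd_pow _ (not_lt.1 hj2)).trans
        (hj ▸ Subgroup.card_subgroup_dvd_card _)).trans hcard)
    exact (Nat.pow_le_pow_right hr.pos (by omega : j ≤ 1)).trans (pow_one _).le
  -- elements of the normaliser preserve the support
  have hNH : normalizer ((P : Subgroup G) : Set G) ≤ (belowStab n (k + 5)).comap ι := by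
    have key : ∀ g ∈ normalizer ((P : Subgroup G) : Set G), ∀ i : Fin n,
        (i : ℕ) < k + 5 → ((ι g i : Fin n) : ℕ) < k + 5 := by
      intro g hg i hi
      by_contra hge
      have hfix : vh c₀ (ι g i) = ι g i := by
        refine Perm.viaEmbedding_apply_of_notMem c₀ e _ ?_
        rintro ⟨y, hy⟩
        exact hge (by rw [← hy]; exact y.2)
      obtain ⟨t, ht⟩ := mem_zpowers_iff.1 (hPeq.le ((mem_normalizer_iff.1 hg c).1
        (hPeq.ge (mem_zpowers c))))
      have h1 : (ι c ^ t) (ι g i) = ι g (ι c i) := by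
        rw [← map_zpow, ht, map_mul, map_mul, map_inv]
        simp
      rw [zpow_apply_of_fixed (by rw [hc]; exact hfix)] at h1
      have h2 := (ι g).injective h1
      rw [hc, show i = e ⟨i, hi⟩ from rfl, show vh c₀ (e ⟨i, hi⟩) = e (c₀ ⟨i, hi⟩) from
        Perm.viaEmbedding_apply c₀ e _] at h2
      have h3 := congrArg Fin.val (e.injective h2)
      simp only [c₀] at h3
      rw [coe_finRotate] at h3
      split at h3 <;> rename_i hlast <;> rw [Fin.ext_iff] at hlast <;> simp only [Fin.val_last] at hlast h3 <;> omega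
    intro g hg i
    refine ⟨fun hlt' => ?_, key g hg i⟩
    have := key g⁻¹ (inv_mem hg) _ hlt'
    rwa [map_inv, show (ι g)⁻¹ (ι g i) = i from (ι g).symm_apply_apply i] at this
  have hHtop : (belowStab n (k + 5)).comap ι ≠ ⊤ := by
    intro htop
    let a : Fin n := ⟨0, by omega⟩
    let b : Fin n := ⟨1, by omega⟩
    let d : Fin n := ⟨n - 1, by omega⟩
    have hab : a ≠ b := fun hh => by simp [a, b, Fin.ext_iff] at hh
    have hbd : b ≠ d := fun hh => by simp [b, d, Fin.ext_iff] at hh; omega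
    obtain ⟨x, hx⟩ := himg (Equiv.swap b d * Equiv.swap a b)
      (by rw [map_mul, Perm.sign_swap hab, Perm.sign_swap hbd]; rfl)
    have h1 := (htop.ge (mem_top x) : ι x ∈ belowStab n (k + 5)) a
    rw [hx, Perm.mul_apply, swap_apply_left, swap_apply_left] at h1
    have := h1.2 (by simp [a])
    simp only [d] at this
    omega
  have hnn : ¬ (P : Subgroup G).Normal := fun hN =>
    hHtop (top_le_iff.1 ((normalizer_eq_top_iff.2 hN).ge.trans hNH))
  haveI : IsCyclic ↥(P : Subgroup G) := hPeq ▸ inferInstance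
  obtain ⟨A, -, -, -, hco, -, -⟩ :=
    main h (center_eq_bot (by omega) ι hinj himg) P (Or.inl inferInstance) hnn
  have hEq : (belowStab n (k + 5)).comap ι = normalizer ((P : Subgroup G) : Set G) := by
    rcases hNH.eq_or_lt with h1 | h1
    · exact h1.symm
    · exact absurd (hco.2 _ h1) hHtop
  -- a three-cycle on the support does not normalise
  let σ₀ : Perm (Fin (k + 5)) := Equiv.swap 0 1 * Equiv.swap 1 2
  obtain ⟨x, hx⟩ := himg (vh (σ₀ ^ 2)) (by rw [map_pow, map_pow, Int.units_sq])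
  have hxH : x ∈ (belowStab n (k + 5)).comap ι := by
    show ι x ∈ belowStab n (k + 5)
    intro i
    rw [hx]
    by_cases hi : i ∈ Set.range e
    · obtain ⟨y, rfl⟩ := hi
      rw [show vh (σ₀ ^ 2) (e y) = e ((σ₀ ^ 2) y) from Perm.viaEmbedding_apply _ e _]
      exact iff_of_true ((σ₀ ^ 2) y).2 y.2
    · rw [show vh (σ₀ ^ 2) i = i from Perm.viaEmbedding_apply_of_notMem _ e _ hi]
  rw [hEq] at hxH
  have hmem := (mem_normalizer_iff.1 hxH c).1 (hPeq.ge (mem_zpowers c))
  rw [hPeq] at hmem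
  obtain ⟨t, ht⟩ := mem_zpowers_iff.1 hmem
  have hcm : Commute (σ₀ ^ 2 * c₀ * (σ₀ ^ 2)⁻¹) c₀ := by
    have h1 : vh (σ₀ ^ 2 * c₀ * (σ₀ ^ 2)⁻¹) = vh c₀ ^ t := by
      rw [map_mul, map_mul, map_inv, ← hx, ← hc, ← map_zpow, ht, map_mul, map_mul, map_inv]
    refine Perm.viaEmbeddingHom_injective e ?_
    show vh _ = vh _
    rw [map_mul vh _ c₀, map_mul vh c₀, h1]
    exact ((Commute.refl _).zpow_left t).eq
  have h4 := Equiv.congr_fun hcm.eq 0
  have f0 : c₀ 0 = 1 := by simp [c₀]
  have h2' : 2 % (k + 5) = 2 := Nat.mod_eq_of_lt (by omega)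
  have h3' : 3 % (k + 5) = 3 := Nat.mod_eq_of_lt (by omega)
  have f1 : c₀ 1 = 2 := by simp [c₀]; apply Fin.ext; simp [Fin.val_add, h2']
  have f2 : c₀ 2 = 3 := by simp [c₀]; apply Fin.ext; simp [Fin.val_add, h2', h3']
  have ne : ∀ a b : Fin (k + 5), (a : ℕ) ≠ b → a ≠ b := fun a b hh hab => hh (congrArg Fin.val hab)
  have s0 : σ₀ 0 = 1 := by
    show Equiv.swap 0 1 (Equiv.swap 1 2 0) = 1
    rw [swap_apply_of_ne_of_ne (ne 0 1 (by simp)) (ne 0 2 (by simp [h2'])), swap_apply_left]
  have s1 : σ₀ 1 = 2 := by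
    show Equiv.swap 0 1 (Equiv.swap 1 2 1) = 2
    rw [swap_apply_left, swap_apply_of_ne_of_ne (ne 2 0 (by simp [h2'])) (ne 2 1 (by simp [h2']))]
  have s2 : σ₀ 2 = 0 := by
    show Equiv.swap 0 1 (Equiv.swap 1 2 2) = 0
    rw [swap_apply_right, swap_apply_right]
  have s3 : σ₀ 3 = 3 := by
    show Equiv.swap 0 1 (Equiv.swap 1 2 3) = 3
    rw [swap_apply_of_ne_of_ne (ne 3 1 (by simp [h3'])) (ne 3 2 (by simp [h2', h3'])),
      swap_apply_of_ne_of_ne (ne 3 0 (by simp [h2', h3'])) (ne 3 1 (by simp [h2', h3']))]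
  have q0 : (σ₀ ^ 2) 0 = 2 := by rw [pow_two, Perm.mul_apply, s0, s1]
  have q1 : (σ₀ ^ 2) 1 = 0 := by rw [pow_two, Perm.mul_apply, s1, s2]
  have q2 : (σ₀ ^ 2) 2 = 1 := by rw [pow_two, Perm.mul_apply, s2, s0]
  have q3 : (σ₀ ^ 2) 3 = 3 := by rw [pow_two, Perm.mul_apply, s3, s3]
  have i0 : (σ₀ ^ 2)⁻¹ 0 = 1 := (σ₀ ^ 2).injective
    ((Equiv.apply_symm_apply (σ₀ ^ 2) 0).trans q1.symm)
  have i1 : (σ₀ ^ 2)⁻¹ 1 = 2 := (σ₀ ^ 2).injective
    ((Equiv.apply_symm_apply (σ₀ ^ 2) 1).trans q2.symm)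
  simp only [Perm.mul_apply, f0, i0, i1, f1, f2, q2, q3] at h4
  exact ne 3 2 (by simp [h2', h3']) h4

/-- Elements that pairwise generate non-nilpotent subgroups bound any nilpotent cover from below. -/
theorem small {ι : Type*} [Fintype ι] (v : ι → G) (cert : ι → ℕ) (hord : ∀ i, orderOf (v i) = cert i)
    (hpair : ∀ i j, i ≠ j → v i * v j ≠ v j * v i ∧
      (Nat.Coprime (cert i) (cert j) ∨
        (cert i = cert j ∧ (cert i).Prime ∧ ¬ cert i ^ 2 ∣ Nat.card G)))
    (ℬ : Finset (Subgroup G)) (hℬ : (∀ A ∈ ℬ, A ≠ ⊤) ∧ (∀ g : G, ∃ A ∈ ℬ, g ∈ A))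
    (hlt : ℬ.card < Fintype.card ι) : ¬ ∃ 𝓐 : Finset (Subgroup G), IsNilMinCover 𝓐 := by
  rintro ⟨𝓐, h⟩
  choose A hA hv using fun i => h.1.2 (v i)
  have hinjA : Set.InjOn A (Finset.univ : Finset ι) := by
    intro i _ j _ hij
    by_contra hne
    obtain ⟨hc, hcert⟩ := hpair i j hne
    rcases hcert with hcop | ⟨heq, hp, hsq⟩
    · exact hc (CfsgLib.OddOrder.commute_of_isNilpotent (h.2.2 _ (hA i)) (hv i) (hij ▸ hv j)
        (by rwa [hord, hord])).eq
    · haveI : Fact (cert i).Prime := ⟨hp⟩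
      obtain ⟨Q, -⟩ := (IsPGroup.of_bot (p := cert i) (G := G)).exists_le_sylow
      have hQc : IsMulCommutative ↥(Q : Subgroup G) := by
        obtain ⟨m, hm⟩ := IsPGroup.iff_card.1 Q.isPGroup'
        have hm2 : m ≤ 1 := by
          by_contra hm2
          exact hsq ((pow_dvd_pow _ (by omega)).trans (hm ▸ Subgroup.card_subgroup_dvd_card _))
        haveI : IsCyclic ↥(Q : Subgroup G) := by
          rcases (show m = 0 ∨ m = 1 by omega) with rfl | rfl
          · haveI : Subsingleton ↥(Q : Subgroup G) :=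
              (Nat.card_eq_one_iff_unique.1 (by rw [hm, pow_zero])).1
            infer_instance
          · exact isCyclic_of_prime_card (p := cert i) (by rw [hm, pow_one])
        letI := IsCyclic.commGroup (α := ↥(Q : Subgroup G))
        exact ⟨⟨fun a b => mul_comm a b⟩⟩
      exact hc (mem_centralizer_singleton_iff.1 (le_centralizer_of_member (p := cert i) (k := 1) Q hQc
        (h.2.2 _ (hA i)) (hij ▸ hv j) (by rw [hord, ← heq, pow_one]) (hv i)))
  have h1 := Finset.card_le_card_of_injOn A (fun i _ => hA i) hinjA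
  have h2 := h.2.1 ℬ hℬ
  rw [Finset.card_univ] at h1
  omega

end CfsgLib.FgsP.NilpotentCoverPerm
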