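import Mathlib
import Cfsg.Agent.Lib.FgsP.NilpotentCoverPerm

/-!
# `S₄`, `A₅` and `S₅` have no nilpotent minimal cover
-/

set_option autoImplicit false
set_option maxRecDepth 20000

namespace CfsgLib.FgsP.NilpotentCoverSmall

open Subgroup Equiv
open CfsgLib.FgsP.NilpotentCover CfsgLib.FgsP.NilpotentCoverPerm

theorem mem_normalizer_zpowers {G : Type*} [Group G] [Finite G] {g c : G} {k : ℕ}
    (h : g * c * g⁻¹ = c ^ k) : g ∈ normalizer ((zpowers c : Subgroup G) : Set G) := by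
  have hle : (zpowers c).map (MulAut.conj g).toMonoidHom ≤ zpowers c := by
    rw [MonoidHom.map_zpowers, zpowers_le]
    show g * c * g⁻¹ ∈ zpowers c
    rw [h]
    exact pow_mem (mem_zpowers c) k
  have heq := eq_of_le_of_card_ge hle
    (Subgroup.card_map_of_injective (MulAut.conj g).injective).ge
  rw [mem_normalizer_iff]
  intro x
  refine ⟨fun hx => hle ⟨x, hx, rfl⟩, fun hx => ?_⟩
  obtain ⟨y, hy, hyx⟩ := heq.ge hx
  rwa [← (MulAut.conj g).injective (hyx : (MulAut.conj g) y = (MulAut.conj g) x)]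

theorem ne_top_of_not_commute {G : Type*} [Group G] {g c : G}
    (h : ¬ g * c * g⁻¹ * c = c * (g * c * g⁻¹)) :
    normalizer ((zpowers c : Subgroup G) : Set G) ≠ ⊤ := by
  intro htop
  obtain ⟨t, ht⟩ := mem_zpowers_iff.1
    ((mem_normalizer_iff.1 (htop.ge (mem_top g)) c).1 (mem_zpowers c))
  exact h (by rw [← ht]; exact ((Commute.refl c).zpow_left t).eq)

/-- The data of the criterion, in decidable form. -/
theorem small' {ι κ : Type*} [Fintype ι] [Fintype κ] {G : Type*} [Group G] [Finite G] (v : ι → G)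
    (cert : ι → ℕ)
    (hord : ∀ i, 0 < cert i ∧ v i ^ cert i = 1 ∧ ∀ m : Fin (cert i), (m : ℕ) = 0 ∨ v i ^ (m : ℕ) ≠ 1)
    (N : ℕ) (hN : Nat.card G = N)
    (hpair : ∀ i j, i = j ∨ (v i * v j ≠ v j * v i ∧
      (Nat.Coprime (cert i) (cert j) ∨
        (cert i = cert j ∧ (cert i).Prime ∧ ¬ cert i ^ 2 ∣ N))))
    (B : κ → Subgroup G) (hB : ∀ k, B k ≠ ⊤) (hcov : ∀ g : G, ∃ k, g ∈ B k)
    (hlt : Fintype.card κ < Fintype.card ι) : ¬ ∃ 𝓐 : Finset (Subgroup G), IsNilMinCover 𝓐 := by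
  classical
  refine small v cert (fun i => ?_) (fun i j hne => ?_) (Finset.univ.image B) ⟨?_, fun g => ?_⟩
    (lt_of_le_of_lt Finset.card_image_le hlt)
  · obtain ⟨h0, h1, h2⟩ := hord i
    refine (orderOf_eq_iff h0).2 ⟨h1, fun m hm hm0 => ?_⟩
    rcases h2 ⟨m, hm⟩ with h | h
    · exact absurd h hm0.ne'
    · exact h
  · rw [hN]
    exact (hpair i j).resolve_left hne
  · intro A hA
    obtain ⟨k, -, rfl⟩ := Finset.mem_image.1 hA
    exact hB k
  · obtain ⟨k, hk⟩ := hcov g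
    exact ⟨B k, Finset.mem_image_of_mem _ (Finset.mem_univ k), hk⟩

/-- Elements of `S₄`: the four kinds of three-cycle and a transposition. -/
def elts4 : Fin 5 → Perm (Fin 4) :=
  ![swap 1 2 * swap 2 3, swap 0 2 * swap 2 3, swap 0 1 * swap 1 3, swap 0 1 * swap 1 2, swap 0 1]

theorem symm4 : ¬ ∃ 𝓐 : Finset (Subgroup (Perm (Fin 4))), IsNilMinCover 𝓐 := by
  let D : Fin 3 → Perm (Fin 4) :=
    ![swap 0 1 * swap 2 3, swap 0 2 * swap 1 3, swap 0 3 * swap 1 2]
  let B : Option (Fin 3) → Subgroup (Perm (Fin 4)) := fun k => match k with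
    | none => alternatingGroup (Fin 4)
    | some i => centralizer ({D i} : Set (Perm (Fin 4)))
  refine small' elts4 ![3, 3, 3, 3, 2] (by decide +kernel) 24
    (by rw [Nat.card_eq_fintype_card, Fintype.card_perm, Fintype.card_fin]; rfl) (by decide +kernel) B
    (fun k htop => ?_) (fun g => ?_) (by simp)
  · cases k with
    | none =>
      have h := htop.ge (mem_top (swap (0 : Fin 4) 1))
      exact absurd (Perm.mem_alternatingGroup.1 h) (by decide +kernel)
    | some i =>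
      have h : ∀ i, ∃ g : Perm (Fin 4), ¬ g * D i = D i * g := by decide +kernel
      obtain ⟨g, hg⟩ := h i
      exact hg (mem_centralizer_singleton_iff.1 (htop.ge (mem_top g)))
  · have h : ∀ g : Perm (Fin 4), Perm.sign g = 1 ∨ ∃ i, g * D i = D i * g := by decide +kernel
    rcases h g with h | ⟨i, hi⟩
    · exact ⟨none, Perm.mem_alternatingGroup.2 h⟩
    · exact ⟨some i, mem_centralizer_singleton_iff.2 hi⟩

/-- Five-cycles generating the six Sylow subgroups. -/
def fives : Fin 6 → Perm (Fin 5) :=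
  ![List.formPerm [0, 1, 2, 3, 4], List.formPerm [0, 1, 2, 4, 3], List.formPerm [0, 1, 3, 2, 4],
    List.formPerm [0, 1, 3, 4, 2], List.formPerm [0, 1, 4, 2, 3], List.formPerm [0, 1, 4, 3, 2]]

/-- The ten three-element subsets, as three-cycles. -/
def threes : Fin 10 → Perm (Fin 5) :=
  ![List.formPerm [0, 1, 2], List.formPerm [0, 1, 3], List.formPerm [0, 1, 4],
    List.formPerm [0, 2, 3], List.formPerm [0, 2, 4], List.formPerm [0, 3, 4],
    List.formPerm [1, 2, 3], List.formPerm [1, 2, 4], List.formPerm [1, 3, 4],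
    List.formPerm [2, 3, 4]]

theorem alt5 : ¬ ∃ 𝓐 : Finset (Subgroup ↥(alternatingGroup (Fin 5))), IsNilMinCover 𝓐 := by
  let w : Fin 6 ⊕ Fin 5 → Perm (Fin 5) :=
    Sum.elim fives fun i => threes (Fin.castLE (by omega) i)
  have hw : ∀ i, Perm.sign (w i) = 1 := by decide +kernel
  let B : Fin 6 ⊕ Fin 4 → Subgroup ↥(alternatingGroup (Fin 5)) := Sum.elim
    (fun i => (normalizer ((zpowers (fives i) : Subgroup (Perm (Fin 5))) : Set (Perm (Fin 5)))).comap
      (alternatingGroup (Fin 5)).subtype)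
    (fun a => (MulAction.stabilizer (Perm (Fin 5)) (Fin.castLE (by omega) a : Fin 5)).comap
      (alternatingGroup (Fin 5)).subtype)
  have hord : ∀ i, 0 < (Sum.elim (fun _ => 5) (fun _ => 3) i : ℕ) ∧
      w i ^ (Sum.elim (fun _ => 5) (fun _ => 3) i : ℕ) = 1 ∧
      ∀ m : Fin (Sum.elim (fun _ => 5) (fun _ => 3) i), (m : ℕ) = 0 ∨ w i ^ (m : ℕ) ≠ 1 := by
    decide +kernel
  have hpair : ∀ i j, i = j ∨ (w i * w j ≠ w j * w i ∧
      (Nat.Coprime (Sum.elim (fun _ => 5) (fun _ => 3) i) (Sum.elim (fun _ => 5) (fun _ => 3) j) ∨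
        ((Sum.elim (fun _ => 5) (fun _ => 3) i : ℕ) = Sum.elim (fun _ => 5) (fun _ => 3) j ∧
          (Sum.elim (fun _ => 5) (fun _ => 3) i : ℕ).Prime ∧
          ¬ (Sum.elim (fun _ => 5) (fun _ => 3) i : ℕ) ^ 2 ∣ 60))) := by decide +kernel
  refine small' (fun i => (⟨w i, Perm.mem_alternatingGroup.2 (hw i)⟩ : ↥(alternatingGroup (Fin 5))))
    (Sum.elim (fun _ => 5) (fun _ => 3)) (fun i => ?_) 60
    (by rw [Nat.card_eq_fintype_card]; decide +kernel) (fun i j => ?_) B (fun k htop => ?_)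
    (fun g => ?_) (by simp)
  · obtain ⟨h0, h1, h2⟩ := hord i
    exact ⟨h0, Subtype.ext h1, fun m => (h2 m).imp_right fun h hh => h (congrArg Subtype.val hh)⟩
  · exact (hpair i j).imp_right fun h => ⟨fun hh => h.1 (congrArg Subtype.val hh), h.2⟩
  · rcases k with i | a
    · have h : ∀ i, ∃ g : Perm (Fin 5), Perm.sign g = 1 ∧
          ¬ g * fives i * g⁻¹ * fives i = fives i * (g * fives i * g⁻¹) := by decide +kernel
      obtain ⟨g, hg, hg'⟩ := h i
      have h1 := htop.ge (mem_top (⟨g, Perm.mem_alternatingGroup.2 hg⟩ : ↥(alternatingGroup (Fin 5))))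
      obtain ⟨t, ht⟩ := mem_zpowers_iff.1 ((mem_normalizer_iff.1 h1 (fives i)).1 (mem_zpowers _))
      exact hg' (by
        have e : g * fives i * g⁻¹ = fives i ^ t := ht.symm
        rw [e]; exact ((Commute.refl _).zpow_left t).eq)
    · have h : ∀ a : Fin 4, ∃ g : Perm (Fin 5), Perm.sign g = 1 ∧
          ¬ g (Fin.castLE (by omega) a) = Fin.castLE (by omega) a := by decide +kernel
      obtain ⟨g, hg, hg'⟩ := h a
      exact hg' (htop.ge (mem_top (⟨g, Perm.mem_alternatingGroup.2 hg⟩ : ↥(alternatingGroup (Fin 5)))))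
  · have h : ∀ g : Perm (Fin 5), Perm.sign g = 1 →
        (∃ (i : Fin 6) (k : Fin 5), g * fives i * g⁻¹ = fives i ^ (k : ℕ)) ∨
          ∃ a : Fin 4, g (Fin.castLE (by omega) a) = Fin.castLE (by omega) a := by decide +kernel
    rcases h g (Perm.mem_alternatingGroup.1 g.2) with ⟨i, k, hk⟩ | ⟨a, ha⟩
    · exact ⟨Sum.inl i, mem_normalizer_zpowers hk⟩
    · exact ⟨Sum.inr a, ha⟩

/-- Seventeen elements of `S₅`. -/
def elts5 : Fin 6 ⊕ Fin 10 ⊕ Unit → Perm (Fin 5) :=
  Sum.elim fives (Sum.elim threes fun _ => List.formPerm [0, 1, 2, 3])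

/-- The unordered pairs. -/
def pairs5 : Fin 10 → Perm (Fin 5) :=
  ![swap 0 1, swap 0 2, swap 0 3, swap 0 4, swap 1 2, swap 1 3, swap 1 4, swap 2 3, swap 2 4,
    swap 3 4]

theorem symm5 : ¬ ∃ 𝓐 : Finset (Subgroup (Perm (Fin 5))), IsNilMinCover 𝓐 := by
  let B : Unit ⊕ Fin 5 ⊕ Fin 10 → Subgroup (Perm (Fin 5)) :=
    Sum.elim (fun _ => alternatingGroup (Fin 5)) (Sum.elim
      (fun a => MulAction.stabilizer (Perm (Fin 5)) a)
      (fun i => centralizer ({pairs5 i} : Set (Perm (Fin 5)))))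
  refine small' elts5 (Sum.elim (fun _ => 5) (Sum.elim (fun _ => 3) fun _ => 4))
    (by decide +kernel) 120
    (by rw [Nat.card_eq_fintype_card, Fintype.card_perm, Fintype.card_fin]; rfl) (by decide +kernel) B
    (fun k htop => ?_) (fun g => ?_) (by simp)
  · rcases k with u | a | i
    · exact absurd (Perm.mem_alternatingGroup.1 (htop.ge (mem_top (swap (0 : Fin 5) 1))))
        (by decide +kernel)
    · have h : ∀ a : Fin 5, ∃ g : Perm (Fin 5), ¬ g a = a := by decide +kernel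
      obtain ⟨g, hg⟩ := h a
      exact hg (htop.ge (mem_top g))
    · have h : ∀ i, ∃ g : Perm (Fin 5), ¬ g * pairs5 i = pairs5 i * g := by decide +kernel
      obtain ⟨g, hg⟩ := h i
      exact hg (mem_centralizer_singleton_iff.1 (htop.ge (mem_top g)))
  · have h : ∀ g : Perm (Fin 5), Perm.sign g = 1 ∨ (∃ a, g a = a) ∨
        ∃ i, g * pairs5 i = pairs5 i * g := by decide +kernel
    rcases h g with h | ⟨a, ha⟩ | ⟨i, hi⟩
    · exact ⟨Sum.inl (), Perm.mem_alternatingGroup.2 h⟩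
    · exact ⟨Sum.inr (Sum.inl a), ha⟩
    · exact ⟨Sum.inr (Sum.inr i), mem_centralizer_singleton_iff.2 hi⟩

end CfsgLib.FgsP.NilpotentCoverSmall
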