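import Mathlib
import Cfsg.Agent.Lib.Chars.Burnside
import Cfsg.Agent.Lib.FgsC.Index

/-!
A finite group with a subgroup of prime power index which is cyclic-by-(cyclic 2-group) is solvable.
-/

set_option autoImplicit false

universe u

namespace CfsgLib.FgsP.PrimePowerMetacyclicIndex

open Subgroup

/-- `G` has a subgroup of prime power index with a normal cyclic subgroup and cyclic 2-group quotient. -/
def Hyp (G : Type u) [Group G] : Prop :=
  ∃ (A : Subgroup G) (p s r : ℕ) (B : Subgroup A) (_ : B.Normal), p.Prime ∧ A.index = p ^ s ∧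
    IsCyclic B ∧ IsCyclic (A ⧸ B) ∧ Nat.card (A ⧸ B) = 2 ^ r

theorem Hyp.subgroup {G : Type u} [Group G] [Finite G] (h : Hyp G) (N : Subgroup G) [N.Normal] :
    Hyp N := by
  obtain ⟨A, p, s, r, B, hB, hp, hA, hBc, hQ, hQ2⟩ := h
  have hidx : (A.subgroupOf N).index ∣ p ^ s := by
    rw [← hA]
    exact CfsgLib.FgsC.relIndex_dvd_index A N
  obtain ⟨s', -, hs'⟩ := (Nat.dvd_prime_pow hp).1 hidx
  let φ : A.subgroupOf N →* A :=
    { toFun := fun x => ⟨((x : N) : G), x.2⟩, map_one' := rfl, map_mul' := fun _ _ => rfl }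
  have hφ : Function.Injective φ := fun x y hxy =>
    Subtype.ext (Subtype.ext (congrArg (fun a : A => (a : G)) hxy))
  let ψ := QuotientGroup.map (B.comap φ) B φ le_rfl
  have hψ : Function.Injective ψ := by
    rw [← MonoidHom.ker_eq_bot_iff, eq_bot_iff]
    intro x hx
    obtain ⟨x, rfl⟩ := QuotientGroup.mk_surjective x
    rw [MonoidHom.mem_ker, QuotientGroup.map_mk, QuotientGroup.eq_one_iff] at hx
    exact Subgroup.mem_bot.2 ((QuotientGroup.eq_one_iff _).2 hx)
  have hdvd : Nat.card (A.subgroupOf N ⧸ B.comap φ) ∣ 2 ^ r :=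
    hQ2 ▸ Subgroup.card_dvd_of_injective ψ hψ
  obtain ⟨r', -, hr'⟩ := (Nat.dvd_prime_pow Nat.prime_two).1 hdvd
  have hcyc : IsCyclic (B.comap φ) := isCyclic_of_injective (φ.subgroupComap B)
    fun x y hxy => Subtype.ext (hφ (congrArg (fun a : B => (a : A)) hxy))
  exact ⟨A.subgroupOf N, p, s', r', B.comap φ, inferInstance, hp, hs', hcyc,
    isCyclic_of_injective ψ hψ, hr'⟩

theorem Hyp.quotient {G : Type u} [Group G] [Finite G] (h : Hyp G) (N : Subgroup G) [N.Normal] :
    Hyp (G ⧸ N) := by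
  obtain ⟨A, p, s, r, B, hB, hp, hA, hBc, hQ, hQ2⟩ := h
  set π := QuotientGroup.mk' N
  obtain ⟨s', -, hs'⟩ := (Nat.dvd_prime_pow hp).1 (hA ▸ A.index_map_dvd
    (QuotientGroup.mk'_surjective N) : (A.map π).index ∣ p ^ s)
  set θ := π.subgroupMap A
  have hθ : Function.Surjective θ := MonoidHom.subgroupMap_surjective _ _
  haveI := Subgroup.Normal.map hB θ hθ
  let ψ := QuotientGroup.map B (B.map θ) θ (Subgroup.le_comap_map _ _)
  have hψ : Function.Surjective ψ := fun x => by
    obtain ⟨y, rfl⟩ := QuotientGroup.mk_surjective x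
    obtain ⟨z, rfl⟩ := hθ y
    exact ⟨(z : A ⧸ B), rfl⟩
  obtain ⟨r', -, hr'⟩ := (Nat.dvd_prime_pow Nat.prime_two).1
    (hQ2 ▸ Subgroup.card_dvd_of_surjective ψ hψ : Nat.card (A.map π ⧸ B.map θ) ∣ 2 ^ r)
  exact ⟨A.map π, p, s', r', B.map θ, inferInstance, hp, hs',
    isCyclic_of_surjective (θ.subgroupMap B) (MonoidHom.subgroupMap_surjective _ _),
    isCyclic_of_surjective ψ hψ, hr'⟩

/-- The simple case. -/
theorem isMulCommutative_of_simple {G : Type u} [Group G] [Finite G] [IsSimpleGroup G] (h : Hyp G) :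
    IsMulCommutative G := by
  obtain ⟨A, p, s, r, B, hB, hp, hA, hBc, hQ, hQ2⟩ := h
  by_contra hna
  have hnp : ∀ g : G, g ≠ 1 → ∀ q k : ℕ, q.Prime →
      ¬ (centralizer ({g} : Set G)).index ∣ q ^ k := by
    intro g hg q k hq hd
    obtain ⟨k', -, hk'⟩ := (Nat.dvd_prime_pow hq).1 hd
    haveI := Fact.mk (CfsgLib.Chars.prime_card_of_class_prime_pow q k' hq g hg hk')
    haveI := isCyclic_of_prime_card (α := G) rfl
    exact hna inferInstance
  by_cases hB2 : 2 ∣ Nat.card B
  · haveI : Fact (Nat.Prime 2) := ⟨Nat.prime_two⟩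
    obtain ⟨b, hb⟩ := exists_prime_orderOf_dvd_card' 2 hB2
    have hb1 : ((b : A) : G) ≠ 1 := by
      intro h
      have : b = 1 := Subtype.ext (Subtype.ext h)
      rw [this, orderOf_one] at hb
      exact absurd hb (by norm_num)
    refine hnp _ hb1 p s hp (hA ▸ index_dvd_of_le fun a ha => ?_)
    -- the involution of `B` is central in `A`
    letI := hBc.commGroup
    set b' : B := ⟨⟨a, ha⟩ * (b : A) * (⟨a, ha⟩ : A)⁻¹, hB.conj_mem _ b.2 _⟩ with hb'
    have ho : orderOf b' = 2 := by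
      rw [← Subgroup.orderOf_coe, hb', show ((b' : B) : A) = MulAut.conj (⟨a, ha⟩ : A) (b : A) from rfl,
        MulEquiv.orderOf_eq, Subgroup.orderOf_coe, hb]
    have heq : b' = b := by
      have h1 : b' ^ 2 = 1 := ho ▸ pow_orderOf_eq_one b'
      obtain ⟨i, hi⟩ := mem_zpowers_iff.1 (show b' ∈ zpowers b by
        have hle : zpowers b ≤ (powMonoidHom 2 : B →* B).ker := by
          rw [zpowers_le, MonoidHom.mem_ker, powMonoidHom_apply, ← hb, pow_orderOf_eq_one]
        have hc : Nat.card (powMonoidHom 2 : B →* B).ker ≤ Nat.card (zpowers b) := by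
          rw [IsCyclic.card_powMonoidHom_ker, Nat.card_zpowers, hb]
          exact Nat.le_of_dvd two_pos (Nat.gcd_dvd_right _ _)
        rw [eq_of_le_of_card_ge hle hc]
        exact h1)
      rcases Int.even_or_odd i with ⟨j, rfl⟩ | ⟨j, rfl⟩
      · exfalso
        rw [← two_mul, zpow_mul, zpow_ofNat, ← hb, pow_orderOf_eq_one, one_zpow] at hi
        rw [← hi, orderOf_one] at ho
        exact absurd ho (by norm_num)
      · rw [← hi, zpow_add, zpow_one, zpow_mul, zpow_ofNat, ← hb, pow_orderOf_eq_one, one_zpow, one_mul]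
    have h2 : a * ((b : A) : G) * a⁻¹ = ((b : A) : G) :=
      congrArg (fun x : B => ((x : A) : G)) heq
    exact mem_centralizer_singleton_iff.2 (mul_inv_eq_iff_eq_mul.1 h2)
  have hindex : (B.map A.subtype).index = p ^ s * 2 ^ r := by
    rw [index_map_subtype, B.index_eq_card, hQ2, hA, mul_comm]
  have hclass : ∀ b ∈ B.map A.subtype, b ≠ 1 → ¬ (p = 2 ∨ r = 0) := by
    intro b hb hb1 hor
    have hd : (centralizer ({b} : Set G)).index ∣ p ^ s * 2 ^ r := by
      rw [← hindex]
      refine index_dvd_of_le fun x hx => mem_centralizer_singleton_iff.2 ?_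
      obtain ⟨b', hb', rfl⟩ := hb
      obtain ⟨x', hx', rfl⟩ := hx
      letI := hBc.commGroup
      exact congrArg (fun y : B => ((y : A) : G)) (mul_comm (⟨x', hx'⟩ : B) ⟨b', hb'⟩)
    rcases hor with rfl | rfl
    · exact hnp b hb1 2 (s + r) Nat.prime_two (by rwa [pow_add])
    · exact hnp b hb1 p s hp (by simpa using hd)
  by_cases hor : p = 2 ∨ r = 0
  · -- `B` is trivial, so `G` has prime power order
    have hBbot : B.map A.subtype = ⊥ := (eq_bot_iff_forall _).2 fun b hb =>
      by_contra fun hb1 => hclass b hb hb1 hor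
    rw [hBbot, index_bot] at hindex
    have hpg : ∃ q : ℕ, q.Prime ∧ ∃ k, Nat.card G = q ^ k := by
      rcases hor with rfl | rfl
      · exact ⟨2, Nat.prime_two, s + r, by rw [hindex, pow_add]⟩
      · exact ⟨p, hp, s, by simpa using hindex⟩
    obtain ⟨q, hq, k, hk⟩ := hpg
    haveI := Fact.mk hq
    obtain ⟨z, hz⟩ := exists_ne (1 : G)
    haveI : Group.IsNilpotent G := (IsPGroup.of_card hk).isNilpotent
    haveI := (IsPGroup.of_card hk).center_nontrivial
    obtain ⟨⟨c, hc⟩, hc1⟩ := exists_ne (1 : center G)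
    refine hnp c (fun h => hc1 (Subtype.ext h)) q 0 hq ?_
    rw [pow_zero, Nat.dvd_one, index_eq_one, eq_top_iff]
    exact fun x _ => mem_centralizer_singleton_iff.2 (mem_center_iff.1 hc x)
  push Not at hor
  obtain ⟨hp2, hr⟩ := hor
  haveI : Fact (Nat.Prime 2) := ⟨Nat.prime_two⟩
  -- the Sylow 2-subgroups are cyclic
  have hcardA : Nat.card A = Nat.card B * 2 ^ r := by
    rw [B.card_eq_card_quotient_mul_card_subgroup, hQ2, mul_comm]
  have hv : padicValNat 2 (Nat.card G) = r := by
    rw [← A.card_mul_index, hA, hcardA, padicValNat.mul (mul_ne_zero Nat.card_pos.ne' (pow_ne_zero _ two_ne_zero)) (pow_ne_zero _ hp.ne_zero),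
      padicValNat.mul Nat.card_pos.ne' (pow_ne_zero _ two_ne_zero), padicValNat.prime_pow,
      padicValNat.eq_zero_of_not_dvd hB2, padicValNat.eq_zero_of_not_dvd
        (fun h => hp2 ((Nat.prime_dvd_prime_iff_eq Nat.prime_two hp).1
          (Nat.prime_two.dvd_of_dvd_pow h)).symm)]
    simp
  obtain ⟨q, hq⟩ := IsCyclic.exists_generator (α := A ⧸ B)
  obtain ⟨a, rfl⟩ := QuotientGroup.mk_surjective q
  have hord : 2 ^ r ∣ orderOf (a : G) := by
    rw [Subgroup.orderOf_coe, ← hQ2, ← orderOf_eq_card_of_forall_mem_zpowers hq]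
    exact orderOf_map_dvd (QuotientGroup.mk' B) a
  obtain ⟨c, hc⟩ := hord
  have hc0 : c ≠ 0 := by
    rintro rfl
    exact (orderOf_pos (a : G)).ne' (by simpa using hc)
  have hao : orderOf ((a : G) ^ c) = 2 ^ r := by
    rw [orderOf_pow_of_dvd hc0 ⟨2 ^ r, by rw [hc, mul_comm]⟩, hc,
      Nat.mul_div_cancel _ (Nat.pos_of_ne_zero hc0)]
  let P : Sylow 2 G := Sylow.ofCard (zpowers ((a : G) ^ c)) (by
    rw [Nat.card_zpowers, hao, Nat.factorization_def _ Nat.prime_two, hv])
  have hPc : IsCyclic (P : Subgroup G) := by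
    rw [Sylow.coe_ofCard]; infer_instance
  have hmin : (Nat.card G).minFac = 2 := by
    rw [Nat.minFac_eq_two_iff]
    by_contra h
    rw [padicValNat.eq_zero_of_not_dvd h] at hv
    omega
  have hcompl := IsCyclic.isComplement' (P := P) hmin hPc
  set K := (MonoidHom.transferSylow P (hPc.normalizer_le_centralizer hmin)).ker
  rcases IsSimpleGroup.eq_bot_or_eq_top_of_normal K inferInstance with hK | hK
  · rw [hK] at hcompl
    have hPtop : (P : Subgroup G) = ⊤ := isComplement'_bot_left.1 hcompl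
    rw [hPtop] at hPc
    haveI := isCyclic_of_surjective (Subgroup.topEquiv (G := G)).toMonoidHom
      (Subgroup.topEquiv (G := G)).surjective
    exact hna inferInstance
  · rw [hK] at hcompl
    have hPbot : (P : Subgroup G) = ⊥ := isComplement'_top_left.1 hcompl
    rw [Sylow.coe_ofCard, zpowers_eq_bot] at hPbot
    rw [hPbot, orderOf_one] at hao
    exact absurd hao.symm (Nat.one_lt_pow hr (by norm_num)).ne'

theorem isSolvable (n : ℕ) : ∀ (G : Type u) [Group G] [Finite G], Nat.card G = n → Hyp G →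
    Group.IsSolvable G := by
  induction n using Nat.strong_induction_on with
  | _ n ih =>
  intro G _ _ hn h
  rcases subsingleton_or_nontrivial G with hs | hnt
  · infer_instance
  by_cases hs : IsSimpleGroup G
  · haveI := hs
    exact Group.isSolvable_of_comm fun a b => (isMulCommutative_of_simple h).is_comm.comm a b
  obtain ⟨N, hN, hN1, hN2⟩ : ∃ N : Subgroup G, N.Normal ∧ N ≠ ⊥ ∧ N ≠ ⊤ := by
    by_contra! hcon
    exact hs ⟨fun N hN => or_iff_not_imp_left.2 (hcon N hN)⟩
  haveI := hN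
  haveI := ih _ (hn ▸ lt_of_le_of_ne N.card_le_card_group fun e => hN2 (N.eq_top_of_card_eq e)) N rfl (h.subgroup N)
  haveI := ih _ (hn ▸ by rw [Subgroup.card_eq_card_quotient_mul_card_subgroup N]; exact lt_mul_of_one_lt_right Nat.card_pos (N.one_lt_card_iff_ne_bot.2 hN1)) (G ⧸ N) rfl (h.quotient N)
  exact Group.isSolvable_of_ker_le_range (Subgroup.subtype N) (QuotientGroup.mk' N)
    (by rw [QuotientGroup.ker_mk', range_subtype])

end CfsgLib.FgsP.PrimePowerMetacyclicIndex
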